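import Groth.Agent.L03.VBPn.GM.Psi
import Mathlib.RingTheory.Polynomial.UniqueFactorization
import Mathlib.RingTheory.UniqueFactorizationDomain.Basic
import Mathlib.Algebra.Polynomial.Derivative
import Mathlib.Algebra.CharP.Algebra
import Mathlib.Algebra.MvPolynomial.NoZeroDivisors
import Mathlib.Tactic.LinearCombination

/-!
# A family of rows killing a matrix on all lines comes from the space
-/

set_option autoImplicit false
set_option linter.unusedSectionVars false

universe u v

open MvPolynomial

noncomputable section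

namespace Groth.L03.VBPn.GM

section Wronskian

variable {T : Type v} [CommRing T] [IsDomain T] [CharZero T] {r : ℕ}

theorem derivative_aeval_line (a d : Fin r → T) (W : MvPolynomial (Fin r) T) :
    Polynomial.derivative (aeval (fun i => Polynomial.C (a i) + Polynomial.X * Polynomial.C (d i)) W) =
      ∑ i, Polynomial.C (d i) * aeval (fun i => Polynomial.C (a i) + Polynomial.X * Polynomial.C (d i)) (pderiv i W) := by
  induction W using MvPolynomial.induction_on with
  | C c =>
    rw [aeval_C, show algebraMap T (Polynomial T) c = Polynomial.C c from rfl, Polynomial.derivative_C, Finset.sum_eq_zero]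
    intro i _
    rw [pderiv_C, map_zero, mul_zero]
  | add p q hp hq => simp only [map_add, hp, hq, mul_add, Finset.sum_add_distrib]
  | mul_X p j hp =>
    rw [map_mul, Polynomial.derivative_mul, hp, Finset.sum_mul, aeval_X]
    simp only [pderiv_mul, map_add, map_mul, aeval_X, mul_add, Finset.sum_add_distrib, mul_assoc]
    congr 1
    rw [Finset.sum_eq_single j]
    · rw [pderiv_X_self, map_one, mul_one, Polynomial.derivative_C, mul_zero, zero_add,
        Polynomial.derivative_mul, Polynomial.derivative_X, Polynomial.derivative_C, mul_zero, add_zero, one_mul]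
      ring
    · intro i _ hi
      simp [pderiv_X_of_ne (Ne.symm hi)]
    · simp

/-- A polynomial with vanishing Wronskians vanishes if it vanishes at a point off the other one. -/
theorem eq_zero_of_wronskian [Infinite T] {P W : MvPolynomial (Fin r) T} {a : Fin r → T}
    (hP : eval a P ≠ 0) (hW : eval a W = 0) (h : ∀ i, P * pderiv i W = W * pderiv i P) : W = 0 := by
  refine MvPolynomial.funext fun b => ?_
  rw [map_zero]
  let ℓ : MvPolynomial (Fin r) T →ₐ[T] Polynomial T :=
    aeval fun i => Polynomial.C (a i) + Polynomial.X * Polynomial.C (b i - a i)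
  have hev : ∀ (x : T) (Q : MvPolynomial (Fin r) T),
      (ℓ Q).eval x = eval (fun i => a i + x * (b i - a i)) Q := by
    intro x Q
    induction Q using MvPolynomial.induction_on with
    | C c => simp [ℓ]
    | add p q hp hq => simp only [map_add, Polynomial.eval_add, hp, hq]
    | mul_X p i hp =>
      rw [map_mul, Polynomial.eval_mul, hp, map_mul, eval_X]
      congr 1
      simp [ℓ]
  have h0 : ∀ Q, (ℓ Q).eval 0 = eval a Q := fun Q => by rw [hev]; simp
  have key : ℓ P * Polynomial.derivative (ℓ W) = ℓ W * Polynomial.derivative (ℓ P) := by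
    simp only [ℓ, derivative_aeval_line, Finset.mul_sum]
    refine Finset.sum_congr rfl fun i _ => ?_
    rw [mul_left_comm, ← map_mul, h i, map_mul, mul_left_comm]
  suffices hf : ℓ W = 0 by
    have := hev 1 W
    rw [hf, Polynomial.eval_zero] at this
    simpa using this.symm
  by_contra hne
  obtain ⟨g, hg, hg0⟩ := (ℓ W).exists_eq_pow_rootMultiplicity_mul_and_not_dvd hne 0
  set m := (ℓ W).rootMultiplicity 0
  simp only [map_zero, sub_zero] at hg hg0
  have hm : 0 < m := Nat.pos_of_ne_zero fun hm => by
    have : (ℓ W).eval 0 = 0 := by rw [h0, hW]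
    rw [hg, hm, pow_zero, one_mul] at this
    exact hg0 (Polynomial.X_dvd_iff.2 (by rwa [Polynomial.coeff_zero_eq_eval_zero]))
  obtain ⟨j, hj⟩ := Nat.exists_eq_succ_of_ne_zero hm.ne'
  rw [hg, Polynomial.derivative_mul, Polynomial.derivative_X_pow, hj, pow_succ, Nat.succ_sub_one] at key
  rw [show (j.succ : T) = ((j + 1 : ℕ) : T) from rfl] at key
  have key' : ℓ P * (Polynomial.C ((j + 1 : ℕ) : T) * g + Polynomial.X * Polynomial.derivative g) =
      Polynomial.X * g * Polynomial.derivative (ℓ P) := by
    refine mul_left_cancel₀ (pow_ne_zero j (Polynomial.X_ne_zero (R := T))) ?_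
    linear_combination key
  have := congrArg (Polynomial.eval 0) key'
  simp only [Polynomial.eval_mul, Polynomial.eval_add, Polynomial.eval_C, Polynomial.eval_X, zero_mul, add_zero] at this
  refine hg0 (Polynomial.X_dvd_iff.2 ?_)
  rw [Polynomial.coeff_zero_eq_eval_zero]
  rcases mul_eq_zero.1 this with h1 | h1
  · exact absurd (h0 P ▸ h1) hP
  · exact (mul_eq_zero.1 h1).resolve_left (Nat.cast_ne_zero.2 (by omega))

/-- Proportional up to constants. -/
theorem exists_point_ratio [Infinite T] {ι : Type*} (P : ι → MvPolynomial (Fin r) T) {J : ι} (hJ : P J ≠ 0)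
    (h : ∀ I i, P J * pderiv i (P I) = P I * pderiv i (P J)) :
    ∃ a, eval a (P J) ≠ 0 ∧ ∀ I, C (eval a (P J)) * P I = C (eval a (P I)) * P J := by
  obtain ⟨a, ha⟩ : ∃ a, eval a (P J) ≠ 0 := by
    by_contra hh
    push Not at hh
    exact hJ (MvPolynomial.funext fun a => by rw [hh a, map_zero])
  refine ⟨a, ha, fun I => sub_eq_zero.1 (eq_zero_of_wronskian ha ?_ fun i => ?_)⟩
  · simp only [map_sub, map_mul, eval_C]; ring
  · simp only [map_sub, pderiv_C_mul]
    linear_combination C (eval a (P J)) * h I i

end Wronskian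

/-- Cancelling a primitive family. -/
theorem dvd_of_dvd_mul_primitive {S : Type*} [CommRing S] [IsDomain S] [UniqueFactorizationMonoid S] {ι : Type*}
    (c : ι → S) (hc : ∀ p : S, Prime p → ∃ I, ¬ p ∣ c I) (a : S) :
    a ≠ 0 → ∀ b, (∀ I, a ∣ b * c I) → a ∣ b := by
  induction a using UniqueFactorizationMonoid.induction_on_prime with
  | h₁ => exact fun h => absurd rfl h
  | h₂ x hx => exact fun _ b _ => hx.dvd
  | h₃ a p ha hp ih =>
    intro _ b hb
    obtain ⟨I, hI⟩ := hc p hp
    obtain ⟨b', rfl⟩ := (hp.dvd_or_dvd ((dvd_mul_right p a).trans (hb I))).resolve_right hI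
    refine mul_dvd_mul_left p (ih ha b' fun I => ?_)
    have := hb I
    rwa [mul_assoc, mul_dvd_mul_iff_left hp.ne_zero] at this

variable {r : ℕ} {k : Type u} [Field k]

/-- Multiplying the coordinates of the line by a parameter. -/
def scale : R r k →ₐ[k] Polynomial (R r k) :=
  aeval (Sum.elim (fun j => Polynomial.C (X (Sum.inl j))) fun l => Polynomial.X * Polynomial.C (X (Sum.inr l)))

theorem scale_Psi {j : ℕ} {g : P r k} (hg : g.IsHomogeneous j) :
    scale (Psi r k g) = Polynomial.X ^ j * Polynomial.C (Psi r k g) := by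
  have hX : ∀ l : Fin (r + 1 + 1), scale (Psi r k (X l)) = Polynomial.X * Polynomial.C (Psi r k (X l)) := by
    intro l
    induction l using Fin.cases with
    | zero => rw [Psi_zero]; simp [scale]
    | succ l =>
      induction l using Fin.cases with
      | zero => rw [Psi_one]; simp [scale]
      | succ i => rw [Psi_succ]; simp [scale]; ring
  rw [g.as_sum, map_sum, map_sum, map_sum, Finset.mul_sum]
  refine Finset.sum_congr rfl fun d hd => ?_
  have hdeg : ∑ l, d l = j := by
    rw [← hg (mem_support_iff.1 hd)]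
    simp [Finsupp.weight_apply, Finsupp.sum_fintype]
  rw [monomial_eq, Finsupp.prod_fintype _ _ (fun _ => pow_zero _), map_mul, map_mul, map_prod, map_prod,
    map_mul Polynomial.C, map_prod]
  simp only [map_pow, hX, mul_pow, Finset.prod_mul_distrib, Finset.prod_pow_eq_pow_sum, hdeg]
  rw [show Psi r k (C (coeff d g)) = C (coeff d g) from (Psi r k).commutes _,
    show scale (C (coeff d g) : R r k) = Polynomial.C (C (coeff d g)) from scale.commutes _]
  ring

theorem totalDegree_le_natDegree (g : P r k) (hg : g ≠ 0) :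
    g.totalDegree ≤ (scale (Psi r k g)).natDegree := by
  refine Polynomial.le_natDegree_of_ne_zero ?_
  conv => enter [1, 1]; rw [← sum_homogeneousComponent g, map_sum, map_sum]
  rw [Polynomial.finsetSum_coeff, Finset.sum_eq_single g.totalDegree]
  · rw [scale_Psi (homogeneousComponent_isHomogeneous _ _), Polynomial.coeff_X_pow_mul', if_pos le_rfl, Nat.sub_self,
      Polynomial.coeff_C_zero, map_ne_zero_iff _ Psi_injective]
    obtain ⟨d, hd, hmax⟩ := Finset.exists_mem_eq_sup _ (support_nonempty.2 hg) fun s => s.sum fun _ e => e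
    intro h0
    have := congrArg (coeff d) h0
    rw [coeff_homogeneousComponent, coeff_zero, if_pos] at this
    · exact mem_support_iff.1 hd this
    · exact hmax.symm
  · intro j _ hj
    rw [scale_Psi (homogeneousComponent_isHomogeneous _ _), Polynomial.coeff_X_pow_mul']
    split_ifs with h
    · rw [Polynomial.coeff_C, if_neg (by omega)]
    · rfl
  · intro h
    exact absurd (Finset.mem_range.2 (Nat.lt_succ_self _)) h

theorem dvd_of_lam_dvd_Psi [Infinite k] {g : P r k} (h : lam r k ∣ Psi r k g) : (X 0 : P r k) ∣ g := by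
  let u : Fin (r + 1 + 1) → P r k := Function.update X 0 0
  have hd : (X 0 : P r k) ∣ g - aeval u g := by
    clear h
    induction g using MvPolynomial.induction_on with
    | C a => simp
    | add p q hp hq =>
      rw [map_add, show p + q - (aeval u p + aeval u q) = p - aeval u p + (q - aeval u q) by ring]
      exact dvd_add hp hq
    | mul_X p i hp =>
      rw [map_mul, aeval_X]
      by_cases hi : i = 0
      · subst hi
        simp [u]
      · rw [show u i = X i from Function.update_of_ne hi _ _, ← sub_mul]
        exact dvd_mul_of_dvd_left hp _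
  suffices h0 : X (Fin.succ 0) * aeval u g = 0 by
    rcases mul_eq_zero.1 h0 with h1 | h1
    · exact absurd h1 (X_ne_zero _)
    · rwa [h1, sub_zero] at hd
  refine MvPolynomial.funext fun y => ?_
  rw [map_mul, eval_X, map_zero]
  by_cases hy : y (Fin.succ 0) = 0
  · rw [hy, zero_mul]
  let z : Ix r → k := Sum.elim (Sum.elim (fun i => y i.succ.succ / y (Fin.succ 0)) fun _ => 0) ![0, y (Fin.succ 0)]
  obtain ⟨q, hq⟩ := h
  have he : eval z (Psi r k g) = 0 := by
    rw [hq, map_mul, show eval z (lam r k) = 0 by simp [z], zero_mul]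
  have hc : ∀ f : P r k, eval z (Psi r k f) = eval y (aeval u f) := fun f => by
    refine RingHom.congr_fun (f := (eval z).comp (Psi r k).toRingHom)
      (g := (eval y).comp (aeval u).toRingHom) (MvPolynomial.ringHom_ext (fun a => by simp [Psi]) fun l => ?_) f
    induction l using Fin.cases with
    | zero => simp [Psi, z, u]
    | succ l =>
      induction l using Fin.cases with
      | zero => simp [Psi, z, u]
      | succ i =>
        simp [Psi, z, u, Fin.succ_ne_zero]
        exact mul_div_cancel₀ _ (by simpa using hy)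
  rw [← hc, he, mul_zero]

/-- A family of rows killing a matrix on all lines, invariant along the lines, comes from the space. -/
theorem descent [Infinite k] [CharZero k] {N M e f : ℕ} (A : Fin N → Fin M → P r k) (hA : ∀ a b, (A a b).IsHomogeneous f)
    (v : Fin N → R r k) (hv : ∀ a, scale (v a) = Polynomial.X ^ e * Polynomial.C (v a)) {J : Fin N} (hJ : v J ≠ 0)
    (hsol : ∀ b, ∑ a, v a * Psi r k (A a b) = 0) (hW : ∀ I J i, v I * D i (v J) = v J * D i (v I)) :
    ∃ (j : ℕ) (w : Fin N → P r k), j ≤ e ∧ (∀ a, (w a).IsHomogeneous j) ∧ w ≠ 0 ∧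
      ∀ b, ∑ a, w a * A a b = 0 := by
  classical
  -- the change of coordinates
  obtain ⟨σ, hσ, hratio⟩ := exists_point_ratio (fun I => theta r k (v I)) (J := J)
    ((map_ne_zero_iff _ theta_injective).2 hJ) fun I i => by
      rw [pderiv_theta, pderiv_theta, mul_neg, mul_neg, ← map_mul, ← map_mul, hW J I i]
  choose m g hg using fun I => exists_lift_pi (eval σ (theta r k (v I)))
  let Sol : (Fin N → P r k) → Prop := fun w => w J ≠ 0 ∧ ∀ I, Psi r k (w J) * v I = Psi r k (w I) * v J
  -- existence
  have hex : ∃ d w, Sol w ∧ (w J).totalDegree = d := by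
    let w : Fin N → P r k := fun I => X 0 ^ (∑ l, m l - m I) * g I
    have hw : ∀ I, piMap r k (w I) = X 0 ^ (∑ l, m l) * eval σ (theta r k (v I)) := fun I => by
      rw [map_mul, map_pow, hg, show piMap r k (X 0) = X 0 by simp [piMap], ← mul_assoc, ← pow_add,
        Nat.sub_add_cancel (Finset.single_le_sum (fun l _ => Nat.zero_le _) (Finset.mem_univ I))]
    refine ⟨_, w, ⟨fun h0 => ?_, fun I => theta_injective ?_⟩, rfl⟩
    · have := hw J
      rw [h0, map_zero] at this
      exact hσ ((mul_eq_zero.1 this.symm).resolve_left (pow_ne_zero _ (X_ne_zero _)))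
    · rw [map_mul (theta r k), map_mul (theta r k), theta_Psi (w J), theta_Psi (w I), hw, hw, map_mul, map_mul,
        mul_assoc, mul_assoc, hratio I]
  obtain ⟨w, hwS, hmin⟩ : ∃ w, Sol w ∧ ∀ w', Sol w' → (w J).totalDegree ≤ (w' J).totalDegree := by
    obtain ⟨w, hw, hd⟩ := Nat.find_spec hex
    exact ⟨w, hw, fun w' hw' => hd ▸ Nat.find_min' hex ⟨w', hw', rfl⟩⟩
  -- primitivity
  have hprim : ∀ p : P r k, Prime p → ∃ I, ¬ p ∣ w I := by
    intro p hp
    by_contra hall
    push Not at hall
    choose w' hw' using hall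
    have hJ' : w' J ≠ 0 := fun h0 => hwS.1 (by rw [hw' J, h0, mul_zero])
    have hS' : Sol w' := ⟨hJ', fun I => by
      refine mul_left_cancel₀ ((map_ne_zero_iff _ Psi_injective).2 hp.ne_zero) ?_
      rw [← mul_assoc, ← mul_assoc, ← map_mul, ← map_mul, ← hw', ← hw', hwS.2]⟩
    have := hmin w' hS'
    rw [hw' J, MvPolynomial.totalDegree_mul_of_isDomain hp.ne_zero hJ'] at this
    refine hp.not_isUnit ?_
    rw [totalDegree_eq_zero_iff_eq_C.1 (show p.totalDegree = 0 by omega)]
    refine IsUnit.map C (isUnit_iff_ne_zero.2 fun h0 => hp.ne_zero ?_)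
    rw [totalDegree_eq_zero_iff_eq_C.1 (show p.totalDegree = 0 by omega), h0, map_zero]
  have hprim' : ∀ p : R r k, Prime p → ∃ I, ¬ p ∣ Psi r k (w I) := by
    intro p hp
    by_contra hall
    push Not at hall
    have hdvd : ∀ I, theta r k p ∣ C (piMap r k (w I)) := fun I => theta_Psi (w I) ▸ map_dvd (theta r k) (hall I)
    have hpC : ∃ h', theta r k p = C h' := by
      obtain ⟨c, hc⟩ := hdvd J
      refine ⟨_, totalDegree_eq_zero_iff_eq_C.1 ?_⟩
      have := congrArg MvPolynomial.totalDegree hc
      rw [totalDegree_C, MvPolynomial.totalDegree_mul_of_isDomain ((map_ne_zero_iff _ theta_injective).2 hp.ne_zero)] at this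
      · omega
      · rintro rfl
        rw [mul_zero, map_eq_zero_iff _ (C_injective _ _), map_eq_zero_iff _ piMap_injective] at hc
        exact hwS.1 hc
    obtain ⟨h', hh'⟩ := hpC
    obtain ⟨M₀, h, hh⟩ := exists_lift_pi h'
    have hI : ∀ I, ∃ K, h ∣ X 0 ^ K * w I := fun I => by
      have hd := hdvd I
      rw [hh'] at hd
      obtain ⟨q, hq⟩ : h' ∣ piMap r k (w I) := by
        have := map_dvd (MvPolynomial.eval (0 : Fin r → P r k)) hd
        simpa using this
      obtain ⟨L, c', hc'⟩ := exists_lift_pi q
      refine ⟨M₀ + L, c', piMap_injective ?_⟩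
      rw [map_mul, map_mul, hh, hc', map_pow, show piMap r k (X 0) = X 0 by simp [piMap], hq]
      ring
    choose K hK using hI
    have hX : h ∣ X 0 ^ (∑ I, K I) := dvd_of_dvd_mul_primitive w hprim h (by
      rintro rfl
      rw [map_zero] at hh
      exact hp.ne_zero ((map_eq_zero_iff _ theta_injective).1 (by
        rw [hh', (mul_eq_zero.1 hh.symm).resolve_left (pow_ne_zero _ (X_ne_zero _)), map_zero]))) _ fun I =>
      (hK I).trans (mul_dvd_mul_right (pow_dvd_pow _ (Finset.single_le_sum (fun l _ => Nat.zero_le _) (Finset.mem_univ I))) _)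
    obtain ⟨c, hc⟩ := hX
    obtain ⟨L₀, c', hc'⟩ := exists_lift_theta (C (piMap r k c))
    have hl : theta r k (lam r k) = C (X 0) := by simp [theta]
    have hpl : p ∣ lam r k ^ (∑ I, K I + L₀) := by
      refine Dvd.intro (lam r k ^ M₀ * c') (theta_injective ?_)
      simp only [map_mul, map_pow, hl, hh', hc']
      rw [← map_pow C, ← map_pow C, ← map_pow C, ← map_mul, ← map_mul, ← map_mul]
      congr 1
      have := congrArg (piMap r k) hc
      rw [map_mul, map_pow, hh, show piMap r k (X 0) = X 0 by simp [piMap]] at this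
      linear_combination (-(X 0 : P r k) ^ L₀) * this
    have hassoc : Associated p (lam r k) := by
      have hlp : Prime (lam r k) := MvPolynomial.X_prime
      exact hp.associated_of_dvd hlp (hp.dvd_of_dvd_pow hpl)
    obtain ⟨I, hI⟩ := hprim (X 0) (MvPolynomial.X_prime)
    exact hI (dvd_of_lam_dvd_Psi (hassoc.symm.dvd.trans (hall I)))
  -- the degree
  obtain ⟨q, hq⟩ := dvd_of_dvd_mul_primitive (fun I => Psi r k (w I)) hprim' (Psi r k (w J))
    ((map_ne_zero_iff _ Psi_injective).2 hwS.1) (v J) fun I =>
      ⟨v I, by rw [mul_comm, ← hwS.2 I]⟩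
  have hq0 : q ≠ 0 := fun h0 => hJ (by rw [hq, h0, mul_zero])
  have hvq : ∀ I, v I = Psi r k (w I) * q := fun I =>
    mul_left_cancel₀ ((map_ne_zero_iff _ Psi_injective).2 hwS.1) (by rw [hwS.2 I, hq]; ring)
  have hle : ∀ I, (w I).totalDegree ≤ e := by
    intro I
    by_cases hI : w I = 0
    · simp [hI]
    refine (totalDegree_le_natDegree _ hI).trans ?_
    have hvI : v I ≠ 0 := by
      rw [hvq]; exact mul_ne_zero ((map_ne_zero_iff _ Psi_injective).2 hI) hq0
    have h1 : (scale (v I)).natDegree = e := by
      rw [hv, mul_comm, Polynomial.natDegree_C_mul_X_pow _ _ hvI]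
    have h2 : scale (v I) ≠ 0 := by
      rw [hv]; exact mul_ne_zero (pow_ne_zero _ Polynomial.X_ne_zero) (by simpa using hvI)
    rw [hvq, map_mul] at h1 h2
    rw [Polynomial.natDegree_mul (left_ne_zero_of_mul h2) (right_ne_zero_of_mul h2)] at h1
    omega
  -- the top component
  obtain ⟨I₀, hI₀m, hI₀⟩ := Finset.exists_max_image (Finset.univ.filter fun I => w I ≠ 0) (fun I => (w I).totalDegree)
    ⟨J, by simp [hwS.1]⟩
  let d := (w I₀).totalDegree
  have hAw : ∀ b, ∑ I, w I * A I b = 0 := fun b => by
    refine Psi_injective (mul_right_cancel₀ (b := v J) hJ ?_)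
    rw [map_zero, zero_mul, map_sum, Finset.sum_mul]
    calc ∑ I, Psi r k (w I * A I b) * v J = ∑ I, Psi r k (w J) * (v I * Psi r k (A I b)) :=
          Finset.sum_congr rfl fun I _ => by rw [map_mul, ← mul_assoc, hwS.2 I]; ring
      _ = 0 := by rw [← Finset.mul_sum, hsol, mul_zero]
  refine ⟨d, fun I => homogeneousComponent d (w I), hle I₀, fun I => homogeneousComponent_isHomogeneous _ _,
    fun h0 => ?_, fun b => ?_⟩
  · have h1 : homogeneousComponent d (w I₀) = 0 := congrFun h0 I₀
    simp only [Finset.mem_filter, Finset.mem_univ, true_and] at hI₀m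
    obtain ⟨c, hc, hmax⟩ := Finset.exists_mem_eq_sup _ (support_nonempty.2 hI₀m) fun s => s.sum fun _ e => e
    have := congrArg (coeff c) h1
    rw [coeff_homogeneousComponent, coeff_zero, if_pos] at this
    · exact mem_support_iff.1 hc this
    · exact hmax.symm
  · have key : ∀ g a : P r k, a.IsHomogeneous f →
        homogeneousComponent (d + f) (g * a) = homogeneousComponent d g * a := by
      intro g a ha
      conv_lhs => rw [← sum_homogeneousComponent g, Finset.sum_mul, map_sum]
      rw [Finset.sum_eq_single d]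
      · rw [homogeneousComponent_of_mem ((homogeneousComponent_isHomogeneous d g).mul ha), if_pos rfl]
      · intro i _ hi
        rw [homogeneousComponent_of_mem ((homogeneousComponent_isHomogeneous i g).mul ha), if_neg (by omega)]
      · intro hd
        rw [homogeneousComponent_eq_zero d g (by simpa using hd), zero_mul, map_zero]
    calc ∑ I, homogeneousComponent d (w I) * A I b = homogeneousComponent (d + f) (∑ I, w I * A I b) := by
          rw [map_sum]
          exact Finset.sum_congr rfl fun I _ => (key _ _ (hA I b)).symm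
      _ = 0 := by rw [hAw, map_zero]

end Groth.L03.VBPn.GM
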