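import Groth.Agent.L03.VBPn.GM.Param
import Mathlib.Algebra.Order.Antidiag.Finsupp

/-!
# Families of rows over a parameter space, and where there are none
-/

set_option autoImplicit false
set_option linter.unusedSectionVars false

universe u

open MvPolynomial

noncomputable section

namespace Groth.L03.VBPn.GM

variable {k : Type u} [Field k]

/-- A linear system injective at one parameter is injective on a nonempty principal open. -/
theorem exists_injective_open {σ ι κ : Type} [Fintype ι] [Fintype κ] (U : ι → κ → MvPolynomial σ k)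
    {z : σ → k} (h : ∀ c : ι → k, (∀ q, ∑ i, c i * eval z (U i q) = 0) → c = 0) :
    ∃ Q : MvPolynomial σ k, eval z Q ≠ 0 ∧
      ∀ st, eval st Q ≠ 0 → ∀ c : ι → k, (∀ q, ∑ i, c i * eval st (U i q) = 0) → c = 0 := by
  classical
  let Mx : Matrix κ ι k := fun q i => eval z (U i q)
  have hli : LinearIndependent k Mx.col := by
    rw [← Matrix.mulVec_injective_iff]
    intro x y hxy
    refine sub_eq_zero.1 (h (x - y) fun q => ?_)
    have := congrFun hxy q
    simp only [Matrix.mulVec, dotProduct, Mx] at this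
    simp only [Pi.sub_apply, sub_mul, Finset.sum_sub_distrib]
    rw [sub_eq_zero]
    simpa only [mul_comm] using this
  have hrk : Mx.rank = Fintype.card ι := by
    rw [Matrix.rank_eq_finrank_span_cols, finrank_span_eq_card hli]
  obtain ⟨s, t, hdet⟩ := Groth.L00.RankSemi.exists_submatrix_det_ne_zero Mx
  have ht : Function.Bijective t := by
    refine (Fintype.bijective_iff_injective_and_card t).2 ⟨fun i j hij => ?_, by rw [Fintype.card_fin, hrk]⟩
    by_contra hne
    exact hdet (Matrix.det_zero_of_column_eq hne fun l => by simp [Matrix.submatrix, hij])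
  let S : Matrix (Fin Mx.rank) (Fin Mx.rank) (MvPolynomial σ k) := fun p q => U (t q) (s p)
  refine ⟨S.det, fun h0 => hdet ?_, fun st hst c hc => funext fun i => ?_⟩
  · rw [show Mx.submatrix s t = (eval z).mapMatrix S from rfl, ← RingHom.map_det, h0]
  rw [RingHom.map_det] at hst
  have := Matrix.eq_zero_of_mulVec_eq_zero hst (v := c ∘ t) (funext fun p => by
    show ∑ q, eval st (U (t q) (s p)) * c (t q) = 0
    rw [← hc (s p), ← (Equiv.ofBijective t ht).sum_comp fun i => c i * eval st (U i (s p))]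
    exact Finset.sum_congr rfl fun q _ => mul_comm _ _)
  obtain ⟨q, rfl⟩ := ht.2 i
  exact congrFun this q

variable {σ τ : Type} [Fintype τ] [DecidableEq τ] {N M : ℕ} {S₀ : Type u} [CommRing S₀]
  (Φ : S₀ →+* MvPolynomial τ (MvPolynomial σ k)) (A : Fin N → Fin M → S₀) (e : ℕ)

/-- The exponents of degree `e`. -/
abbrev Expt : Type := {d : τ →₀ ℕ // d ∈ (Finset.univ : Finset τ).finsuppAntidiag e}

theorem mem_expt {d : τ →₀ ℕ} : d ∈ (Finset.univ : Finset τ).finsuppAntidiag e ↔ Finsupp.weight 1 d = e := by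
  rw [Finset.mem_finsuppAntidiag]
  simp [Finsupp.weight_apply, Finsupp.sum_fintype]

variable {R' : Type u} [CommRing R']

/-- The polynomial with given coefficients. -/
def comb (c : Fin N × Expt (τ := τ) e → R') (a : Fin N) : MvPolynomial τ R' := ∑ d, monomial d.1 (c (a, d))

theorem isHomogeneous_comb (c : Fin N × Expt (τ := τ) e → R') (a : Fin N) : (comb e c a).IsHomogeneous e :=
  IsHomogeneous.sum _ _ _ fun d _ => isHomogeneous_monomial _ (by
    rw [Finsupp.degree_eq_weight_one]
    exact (mem_expt e).1 d.2)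

theorem coeff_comb (c : Fin N × Expt (τ := τ) e → R') (a : Fin N) (d : Expt (τ := τ) e) :
    coeff d.1 (comb e c a) = c (a, d) := by
  rw [comb, coeff_sum, Finset.sum_eq_single d]
  · rw [coeff_monomial, if_pos rfl]
  · intro d' _ hd
    rw [coeff_monomial, if_neg fun h => hd (Subtype.ext h)]
  · simp

theorem eq_comb {u : Fin N → MvPolynomial τ R'} (hu : ∀ a, (u a).IsHomogeneous e) :
    u = comb e fun i => coeff i.2.1 (u i.1) := by
  funext a
  refine MvPolynomial.ext _ _ fun d => ?_
  by_cases hd : d ∈ (Finset.univ : Finset τ).finsuppAntidiag e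
  · exact (coeff_comb e (fun i : Fin N × Expt (τ := τ) e => coeff i.2.1 (u i.1)) a ⟨d, hd⟩).symm
  · rw [(hu a).coeff_eq_zero, comb, coeff_sum, Finset.sum_eq_zero]
    · intro d' _
      rw [coeff_monomial, if_neg fun h : d'.1 = d => hd (h ▸ d'.2)]
    · intro h
      exact hd ((mem_expt e).2 ((congrArg (· d) (Finsupp.degree_eq_weight_one (σ := τ) (R := ℕ))).symm.trans h))

/-- The monomials that occur. -/
def supp : Finset (τ →₀ ℕ) :=
  Finset.univ.biUnion fun i : Fin N × Expt (τ := τ) e =>
    Finset.univ.biUnion fun b => (monomial i.2.1 1 * Φ (A i.1 b)).support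

/-- The linear system. -/
def sys (i : Fin N × Expt (τ := τ) e) (q : Fin M × supp Φ A e) : MvPolynomial σ k :=
  coeff q.2.1 (monomial i.2.1 1 * Φ (A i.1 q.1))

theorem comb_sol_iff (g : MvPolynomial σ k →+* R') (c : Fin N × Expt (τ := τ) e → R') :
    (∀ b, ∑ a, comb e c a * MvPolynomial.map g (Φ (A a b)) = 0) ↔ ∀ q, ∑ i, c i * g (sys Φ A e i q) = 0 := by
  have key : ∀ b d, coeff d (∑ a, comb e c a * MvPolynomial.map g (Φ (A a b))) =
      ∑ i, c i * g (coeff d (monomial i.2.1 1 * Φ (A i.1 b))) := fun b d => by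
    rw [coeff_sum, Fintype.sum_prod_type]
    refine Finset.sum_congr rfl fun a _ => ?_
    rw [comb, Finset.sum_mul, coeff_sum]
    refine Finset.sum_congr rfl fun l _ => ?_
    rw [← coeff_map, map_mul, MvPolynomial.map_monomial, map_one, ← coeff_C_mul, ← mul_assoc, C_mul_monomial, mul_one]
  constructor
  · intro h q
    have := congrArg (coeff q.2.1) (h q.1)
    rw [key, coeff_zero] at this
    exact this
  · intro h b
    refine MvPolynomial.ext _ _ fun d => ?_
    rw [key, coeff_zero]
    by_cases hd : d ∈ supp Φ A e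
    · exact h (b, ⟨d, hd⟩)
    · refine Finset.sum_eq_zero fun i _ => ?_
      rw [notMem_support_iff.1 fun h => hd (Finset.mem_biUnion.2 ⟨i, Finset.mem_univ _,
        Finset.mem_biUnion.2 ⟨b, Finset.mem_univ _, h⟩⟩), map_zero, mul_zero]

/-- Rows at every parameter give a family. -/
theorem exists_family [Infinite k]
    (hex : ∀ st : σ → k, ∃ u : Fin N → MvPolynomial τ k, (∀ a, (u a).IsHomogeneous e) ∧ u ≠ 0 ∧
      ∀ b, ∑ a, u a * MvPolynomial.map (eval st) (Φ (A a b)) = 0) :
    ∃ v : Fin N → MvPolynomial τ (MvPolynomial σ k), (∀ a, (v a).IsHomogeneous e) ∧ v ≠ 0 ∧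
      ∀ b, ∑ a, v a * Φ (A a b) = 0 := by
  obtain ⟨c, hc0, hc⟩ := exists_kernel (sys Φ A e) fun st => by
    obtain ⟨u, hu, hu0, hA⟩ := hex st
    refine ⟨fun i => coeff i.2.1 (u i.1), fun h0 => hu0 ?_, ?_⟩
    · rw [eq_comb e hu]
      funext a
      refine Finset.sum_eq_zero fun d _ => ?_
      rw [h0, Pi.zero_apply, monomial_zero]
    · rw [← comb_sol_iff Φ A e (eval st), ← eq_comb e hu]
      exact hA
  refine ⟨comb e c, isHomogeneous_comb e c, fun h0 => hc0 (funext fun i => ?_), fun b => ?_⟩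
  · rw [Pi.zero_apply, ← Prod.mk.eta (p := i), ← coeff_comb e c i.1 i.2, h0, Pi.zero_apply, coeff_zero]
  · have h := (comb_sol_iff Φ A e (RingHom.id _) c).2 fun q => hc q
    simpa only [MvPolynomial.map_id] using h b

/-- No rows at one parameter gives none on a nonempty principal open. -/
theorem exists_no_rows {z : σ → k}
    (h : ∀ u : Fin N → MvPolynomial τ k, (∀ a, (u a).IsHomogeneous e) →
      (∀ b, ∑ a, u a * MvPolynomial.map (eval z) (Φ (A a b)) = 0) → u = 0) :
    ∃ Q : MvPolynomial σ k, eval z Q ≠ 0 ∧ ∀ st, eval st Q ≠ 0 → ∀ u : Fin N → MvPolynomial τ k,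
      (∀ a, (u a).IsHomogeneous e) → (∀ b, ∑ a, u a * MvPolynomial.map (eval st) (Φ (A a b)) = 0) → u = 0 := by
  obtain ⟨Q, hz, hQ⟩ := exists_injective_open (sys Φ A e) (z := z) fun c hc => funext fun i => by
    have := h (comb e c) (isHomogeneous_comb e c) ((comb_sol_iff Φ A e (eval z) c).2 hc)
    rw [Pi.zero_apply, ← Prod.mk.eta (p := i), ← coeff_comb e c i.1 i.2, this, Pi.zero_apply, coeff_zero]
  refine ⟨Q, hz, fun st hst u hu hA => ?_⟩
  have h0 := hQ st hst (fun i => coeff i.2.1 (u i.1)) (by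
    rw [← comb_sol_iff Φ A e (eval st), ← eq_comb e hu]; exact hA)
  rw [eq_comb e hu, h0]
  funext a
  exact Finset.sum_eq_zero fun d _ => monomial_zero

/-- Homogeneous elements scale. -/
theorem map_eq_pow_mul {R₀ B : Type*} [CommRing R₀] [CommRing B] {ν : Type*}
    (f g : MvPolynomial ν R₀ →+* B) (T : B) (hC : ∀ a, f (C a) = g (C a)) (hX : ∀ l, f (X l) = T * g (X l))
    {j : ℕ} {p : MvPolynomial ν R₀} (hp : p.IsHomogeneous j) : f p = T ^ j * g p := by
  rw [p.as_sum, map_sum, map_sum, Finset.mul_sum]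
  refine Finset.sum_congr rfl fun d hd => ?_
  have hdeg : ∑ l ∈ d.support, d l = j := by
    rw [← hp (mem_support_iff.1 hd)]
    simp [Finsupp.weight_apply, Finsupp.sum]
  simp only [monomial_eq, Finsupp.prod, map_mul, map_prod, map_pow, hC, hX, mul_pow, Finset.prod_mul_distrib,
    Finset.prod_pow_eq_pow_sum, hdeg]
  ring

end Groth.L03.VBPn.GM
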