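import Groth.Agent.L03.VBPn.Tango.Maps
import Groth.Agent.L18.GrMod.TwistFrame
import Groth.Agent.L16.ProjSpace.Sections
import Groth.Agent.L16.ProjSpace.CohTwist
import Groth.Agent.L21.RR.Sections
import Groth.Agent.L22.PDual.Pairing

/-!
# Homomorphisms of twists are forms
-/

set_option autoImplicit false
set_option linter.style.haveILetI false
set_option linter.unusedSectionVars false
set_option backward.isDefEq.respectTransparency false
set_option backward.isDefEq.respectTransparency.types false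

universe u

open CategoryTheory CategoryTheory.Limits AlgebraicGeometry TopologicalSpace Opposite
open Groth.L22.SyzTilde (G S PS Fr pr st theta matHom mulHom toLoc mem_G_cast ι_pr_self ι_pr_ne sum_pr_ι)
open Groth.L18.Frame (rs)

noncomputable section

namespace Groth.L03.VBPn.GM

variable {k : Type u} [Field k] {n : ℕ}

variable (k n) in
/-- `O(d)`. -/
abbrev Tw (d : ℤ) : (PS n k).Modules := Twist.twist (CohB1.polyGrading n k) d

/-- The value of a section. -/
abbrev val' {d : ℤ} {W : (PS n k).Opens} (f : Γ(Tw k n d, W)) (x : W) : Twist.Loc (CohB1.polyGrading n k) x.1 :=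
  ((show Twist.sectN (𝒜 := CohB1.polyGrading n k) d (op W) from f).1 x).1

theorem val'_inj {d : ℤ} {W : (PS n k).Opens} {f g : Γ(Tw k n d, W)} (h : ∀ x, val' f x = val' g x) : f = g :=
  Subtype.ext (funext fun x => Subtype.ext (h x))

/-- The chart. -/
abbrev U (i : Fin (n + 1)) : (PS n k).Opens :=
  Proj.basicOpen (CohB1.polyGrading n k) (MvPolynomial.X i : S n k)

theorem notMem {i : Fin (n + 1)} (x : U (k := k) i) (m : ℕ) :
    ((MvPolynomial.X i : S n k) ^ m) ∉ x.1.asHomogeneousIdeal :=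
  Groth.L16.ProjTwist.notMem_pow _ ((Proj.mem_basicOpen _ _ _).1 x.2) m

/-- `X_i ^ m` in degree `m`. -/
def Xp (i : Fin (n + 1)) (m : ℕ) : CohB1.polyGrading n k m :=
  ⟨(MvPolynomial.X i : S n k) ^ m, by simpa using SetLike.pow_mem_graded m (Groth.L16.ProjSpace.X_mem n k i)⟩

/-- The frame of `O(a)` on a chart. -/
def gen (a : ℤ) (i : Fin (n + 1)) : Γ(Tw k n a, U (k := k) i) :=
  Groth.L18.GrM.genT (Xp i a.toNat) (Xp i (-a).toNat) (by omega) (U (k := k) i) fun x => notMem x _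

theorem isFrame_gen (a : ℤ) (i : Fin (n + 1)) : Groth.L18.Frame.IsFrame (Tw k n a) (U (k := k) i) (gen a i) :=
  Groth.L18.GrM.isFrame_genT _ _ _ _ (fun x => notMem x _) (fun x => notMem x _)

/-- Morphisms of twists commute with multiplication of sections. -/
theorem app_comm {a b : ℤ} (h : (Tw k n a) ⟶ Tw k n b) (i : Fin (n + 1)) {V : (PS n k).Opens} (hV : V ≤ U (k := k) i)
    (f : Γ(Tw k n a, V)) (x : V) :
    val' (h.app V f) x * val' (gen a i) ⟨x.1, hV x.2⟩ = val' (h.app (U (k := k) i) (gen a i)) ⟨x.1, hV x.2⟩ * val' f x := by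
  obtain ⟨c, rfl⟩ := (isFrame_gen a i).exists_coeff hV f
  have e : h.app V (c • rs (Tw k n a) hV (gen a i)) = c • rs (Tw k n b) hV (h.app (U (k := k) i) (gen a i)) := by
    rw [Scheme.Modules.Hom.app_smul]
    exact congrArg (c • ·) (congr($((Scheme.Modules.Hom.mapPresheaf h).naturality (homOfLE hV).op) (gen a i)))
  rw [e]
  have hs : ∀ {d : ℤ} (g : Γ(Tw k n d, V)), val' (c • g) x =
      ((show Twist.O (𝒜 := CohB1.polyGrading n k) (op V) from c).1 x).val * val' g x := fun g =>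
    Twist.coe_smul_val _ _ _ _
  rw [hs, hs]
  show _ * val' (h.app (U (k := k) i) (gen a i)) ⟨x.1, hV x.2⟩ * val' (gen a i) ⟨x.1, hV x.2⟩ =
    val' (h.app (U (k := k) i) (gen a i)) ⟨x.1, hV x.2⟩ * (_ * val' (gen a i) ⟨x.1, hV x.2⟩)
  ring

/-- A degree-`δ` value function, locally a fraction, is a form. -/
theorem exists_poly (hn : 1 ≤ n) (δ : ℤ) (u : ∀ x : PS n k, Twist.Loc (CohB1.polyGrading n k) x)
    (hloc : ∀ x : PS n k, ∃ (V : (PS n k).Opens) (_ : x ∈ V) (i j : ℕ) (α : CohB1.polyGrading n k i)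
      (σ : CohB1.polyGrading n k j) (hσ : ∀ y : V, σ.1 ∉ y.1.asHomogeneousIdeal),
      ((i : ℤ) = j + δ ∨ α.1 = 0) ∧ ∀ y : V, u y.1 = Localization.mk α.1 ⟨σ.1, hσ y⟩) :
    ∃ p : S n k, p ∈ G n k δ ∧ ∀ x, u x = toLoc x p := by
  have hmem : ∀ x, u x ∈ Twist.twistAt (CohB1.polyGrading n k) δ x := fun x => by
    obtain ⟨V, hxV, i, j, α, σ, hσ, c, w⟩ := hloc x
    rw [w ⟨x, hxV⟩]
    rcases c with c | c
    · exact Submodule.subset_span ⟨i, j, α, σ, hσ ⟨x, hxV⟩, c, rfl⟩
    · rw [c, Localization.mk_zero]; exact zero_mem _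
  let s : Twist.sectN (𝒜 := CohB1.polyGrading n k) δ (op ⊤) :=
    ⟨fun x => ⟨u x.1, hmem x.1⟩, fun x => by
      obtain ⟨V, hxV, i, j, α, σ, hσ, c, w⟩ := hloc x.1
      exact ⟨V, hxV, homOfLE le_top, i, j, α, σ, hσ, c, w⟩⟩
  rcases le_or_gt 0 δ with hd | hd
  · obtain ⟨d, rfl⟩ := Int.eq_ofNat_of_zero_le hd
    obtain ⟨p, hp⟩ := Groth.L16.ProjSpace.polyToSection_surjective (n := n) (R := k) d s
    exact ⟨p.1, mem_G_cast.2 p.2, fun x =>
      (congrArg (fun t : Twist.sectN (𝒜 := CohB1.polyGrading n k) (d : ℤ) (op ⊤) => (t.1 ⟨x, trivial⟩).1) hp).symm⟩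
  · haveI : Subsingleton (Coh.HH (CohB1.ProjSpace n k) (Twist.twistProjSpace n k δ) 0) :=
      Groth.L16.ProjSpace.subsingleton_HH_twist n k _ 0 (fun h => by omega) (fun h => by omega)
    have hz : Subsingleton Γ(Tw k n δ, ⊤) := (Groth.L21.RR.e0 (Twist.twistProjSpace n k δ)).symm.subsingleton
    have h0 : ∀ x : (⊤ : (PS n k).Opens), val' (d := δ) s x = val' (d := δ) (0 : Γ(Tw k n δ, ⊤)) x := fun x =>
      congrArg (fun g : Γ(Tw k n δ, ⊤) => val' g x) (@Subsingleton.elim _ hz _ _)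
    refine ⟨0, zero_mem _, fun x => (h0 ⟨x, trivial⟩).trans ?_⟩
    rw [toLoc, Localization.mk_zero]
    rfl

/-- Every morphism of twists is multiplication by a form. -/
theorem exists_eq_mulHom (hn : 1 ≤ n) {a b : ℤ} (h : (Tw k n a) ⟶ Tw k n b) :
    ∃ (p : S n k) (hp : p ∈ G n k (b - a)), h = mulHom (n := a) (n' := b) hp (by omega) := by
  classical
  have hcov : ∀ x : PS n k, ∃ i, x ∈ U (k := k) i := fun x => Groth.L16.ProjSpace.exists_mem_basicOpen_X n k x
  choose ix hix using hcov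
  let u : ∀ x : PS n k, Twist.Loc (CohB1.polyGrading n k) x := fun x =>
    val' (h.app (U (k := k) (ix x)) (gen a (ix x))) ⟨x, hix x⟩ *
      val' (gen (-a) (ix x)) ⟨x, hix x⟩
  have hone : ∀ (i : Fin (n + 1)) (x : U (k := k) i), val' (gen a i) x * val' (gen (-a) i) x = 1 := fun i x => by
    show Localization.mk _ _ * Localization.mk _ _ = 1
    rw [Localization.mk_mul, ← Localization.mk_one, Localization.mk_eq_mk_iff, Localization.r_iff_exists]
    refine ⟨(1 : x.1.asHomogeneousIdeal.toIdeal.primeCompl), ?_⟩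
    simp only [Xp, Submonoid.coe_mul, OneMemClass.coe_one, neg_neg]
    ring
  have hu : ∀ (i : Fin (n + 1)) (x : U (k := k) i), u x.1 =
      val' (h.app (U (k := k) i) (gen a i)) x * val' (gen (-a) i) x := fun i x => by
    let V := U (k := k) i ⊓ U (k := k) (ix x.1)
    have hc := app_comm h i (V := V) inf_le_left (rs (Tw k n a) inf_le_right (gen a (ix x.1))) ⟨x.1, x.2, hix _⟩
    have hr : h.app V (rs (Tw k n a) inf_le_right (gen a (ix x.1))) =
        rs (Tw k n b) inf_le_right (h.app (U (k := k) (ix x.1)) (gen a (ix x.1))) :=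
      congr($((Scheme.Modules.Hom.mapPresheaf h).naturality (homOfLE (inf_le_right : V ≤ _)).op) (gen a (ix x.1)))
    rw [hr] at hc
    change val' (h.app (U (k := k) (ix x.1)) (gen a (ix x.1))) ⟨x.1, hix _⟩ * val' (gen a i) x =
      val' (h.app (U (k := k) i) (gen a i)) x * val' (gen a (ix x.1)) ⟨x.1, hix _⟩ at hc
    show _ * val' (gen (-a) (ix x.1)) ⟨x.1, hix _⟩ = _
    calc _ = val' (h.app (U (k := k) (ix x.1)) (gen a (ix x.1))) ⟨x.1, hix _⟩ *
          val' (gen (-a) (ix x.1)) ⟨x.1, hix _⟩ * (val' (gen a i) x * val' (gen (-a) i) x) := by rw [hone, mul_one]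
      _ = val' (h.app (U (k := k) i) (gen a i)) x * val' (gen (-a) i) x *
          (val' (gen a (ix x.1)) ⟨x.1, hix _⟩ * val' (gen (-a) (ix x.1)) ⟨x.1, hix _⟩) := by
        linear_combination (val' (gen (-a) (ix x.1)) ⟨x.1, hix _⟩ * val' (gen (-a) i) x) * hc
      _ = _ := by rw [hone, mul_one]
  have hloc : ∀ x : PS n k, ∃ (V : (PS n k).Opens) (_ : x ∈ V) (i j : ℕ) (α : CohB1.polyGrading n k i)
      (σ : CohB1.polyGrading n k j) (hσ : ∀ y : V, σ.1 ∉ y.1.asHomogeneousIdeal),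
      ((i : ℤ) = j + (b - a) ∨ α.1 = 0) ∧ ∀ y : V, u y.1 = Localization.mk α.1 ⟨σ.1, hσ y⟩ := by
    intro x
    let f := show Twist.sectN (𝒜 := CohB1.polyGrading n k) b (op (U (k := k) (ix x))) from
      h.app (U (k := k) (ix x)) (gen a (ix x))
    obtain ⟨V, mV, iV, i, j, α, σ, nin, c, w⟩ := f.2 ⟨x, hix x⟩
    refine ⟨V, mV, i + (-a).toNat, j + a.toNat,
      ⟨α.1 * (Xp (ix x) (-a).toNat).1, SetLike.mul_mem_graded α.2 (Xp (ix x) (-a).toNat).2⟩,
      ⟨σ.1 * (Xp (ix x) a.toNat).1, SetLike.mul_mem_graded σ.2 (Xp (ix x) a.toNat).2⟩,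
      fun y => Groth.L16.ProjTwist.notMem_mul _ (nin y) (notMem (iV y) _), ?_, fun y => ?_⟩
    · rcases c with c | c
      · exact Or.inl (by push_cast; omega)
      · exact Or.inr (show α.1 * _ = 0 by rw [c, zero_mul])
    · rw [show u y.1 = _ from hu (ix x) (iV y)]
      show ((f.1 (iV y)).1) * Localization.mk _ _ = _
      erw [w y]
      rw [Localization.mk_mul]
      congr 1
      exact Subtype.ext (by simp [Xp])
  obtain ⟨p, hp, hup⟩ := exists_poly hn (b - a) u hloc
  refine ⟨p, hp, Scheme.Modules.hom_ext _ _ fun W => ConcreteCategory.hom_ext _ _ fun f => ?_⟩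
  refine val'_inj (f := h.app W f) fun x => ?_
  show val' (h.app W f) x = toLoc x.1 p * val' f x
  obtain ⟨i, hi⟩ := Groth.L16.ProjSpace.exists_mem_basicOpen_X n k x.1
  let V := W ⊓ U (k := k) i
  have hc := app_comm h i (V := V) inf_le_right (rs (Tw k n a) inf_le_left f) ⟨x.1, x.2, hi⟩
  have hr : h.app V (rs (Tw k n a) inf_le_left f) = rs (Tw k n b) inf_le_left (h.app W f) :=
    congr($((Scheme.Modules.Hom.mapPresheaf h).naturality (homOfLE (inf_le_left : V ≤ W)).op) f)
  rw [hr] at hc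
  change val' (h.app W f) x * val' (gen a i) ⟨x.1, hi⟩ = val' (h.app (U (k := k) i) (gen a i)) ⟨x.1, hi⟩ * val' f x at hc
  rw [← hup, show u x.1 = _ from hu i ⟨x.1, hi⟩]
  calc val' (h.app W f) x = val' (h.app W f) x * (val' (gen a i) ⟨x.1, hi⟩ * val' (gen (-a) i) ⟨x.1, hi⟩) := by
        rw [hone, mul_one]
    _ = _ := by linear_combination val' (gen (-a) i) ⟨x.1, hi⟩ * hc

theorem mulHom_add {a b δ : ℤ} {p q : S n k} (hp : p ∈ G n k δ) (hq : q ∈ G n k δ) (h : a + δ = b) :
    mulHom (n := a) (n' := b) hp h + mulHom (n := a) (n' := b) hq h = mulHom (add_mem hp hq) h :=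
  Scheme.Modules.hom_ext _ _ fun W => ConcreteCategory.hom_ext _ _ fun f => val'_inj fun x => by
    show toLoc x.1 p * val' f x + toLoc x.1 q * val' f x = toLoc x.1 (p + q) * val' f x
    rw [← add_mul]
    congr 1
    exact Localization.add_mk_self _ _ _

theorem mulHom_comp {a b c δ δ' δ'' : ℤ} {p q : S n k} (hp : p ∈ G n k δ) (hq : q ∈ G n k δ') (h : a + δ = b)
    (h' : b + δ' = c) (h'' : a + δ'' = c) (hpq : q * p ∈ G n k δ'') :
    mulHom (n := a) (n' := b) hp h ≫ mulHom (n := b) (n' := c) hq h' = mulHom hpq h'' :=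
  Scheme.Modules.hom_ext _ _ fun W => ConcreteCategory.hom_ext _ _ fun f => val'_inj fun x => by
    show toLoc x.1 q * (toLoc x.1 p * val' f x) = toLoc x.1 (q * p) * val' f x
    rw [← mul_assoc]
    congr 1
    rw [toLoc, toLoc, Localization.mk_mul]
    congr 1
    exact Subtype.ext (one_mul _)

theorem mulHom_zero {a b δ : ℤ} (hp : (0 : S n k) ∈ G n k δ) (h : a + δ = b) :
    mulHom (n := a) (n' := b) hp h = 0 :=
  Scheme.Modules.hom_ext _ _ fun W => ConcreteCategory.hom_ext _ _ fun f => val'_inj fun x => by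
    show toLoc x.1 0 * val' f x = 0
    rw [toLoc, Localization.mk_zero, zero_mul]

theorem mulHom_eq_zero_iff {a b δ : ℤ} {p : S n k} (hp : p ∈ G n k δ) (h : a + δ = b) :
    mulHom (n := a) (n' := b) hp h = 0 ↔ p = 0 := by
  refine ⟨fun h0 => ?_, fun h0 => by subst h0; exact mulHom_zero _ _⟩
  by_contra hne
  exact Groth.L22.PDual.mulHom_ne_zero hp h hne h0

theorem mulHom_sum {a b δ : ℤ} (h : a + δ = b) {ι : Type*} (s : Finset ι) (p : ι → S n k)
    (hp : ∀ i, p i ∈ G n k δ) :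
    ∑ i ∈ s, mulHom (n := a) (n' := b) (hp i) h = mulHom (sum_mem fun i (_ : i ∈ s) => hp i) h := by
  classical
  induction s using Finset.induction_on with
  | empty =>
    simp only [Finset.sum_empty]
    exact (mulHom_zero _ h).symm
  | insert i s hi ih =>
    simp only [Finset.sum_insert hi, ih]
    rw [mulHom_add]

theorem mul_mem_G {p q : S n k} {δ δ' : ℤ} (hp : p ∈ G n k δ) (hq : q ∈ G n k δ') : p * q ∈ G n k (δ + δ') :=
  SetLike.mul_mem_graded hp hq

variable {N N' : ℕ} {deg : Fin N → ℤ} {deg' : Fin N' → ℤ}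

/-- Every morphism of sums of twists is a matrix. -/
theorem exists_matHom (hn : 1 ≤ n) (g : Fr (r := n) (k := k) deg' ⟶ Fr deg) :
    ∃ (d : Fin N → Fin N' → S n k) (hd : ∀ a b, d a b ∈ G n k (deg' b - deg a)), g = matHom d hd := by
  have h := fun a b => exists_eq_mulHom hn
    (Sigma.ι (fun b : Fin N' => Twist.twist (CohB1.polyGrading n k) (-deg' b)) b ≫ g ≫ pr deg a)
  choose d hd he using h
  refine ⟨d, fun a b => by have := hd a b; rwa [show -deg a - -deg' b = deg' b - deg a by ring] at this, ?_⟩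
  have h0 : g = (∑ b, pr deg' b ≫ Sigma.ι (fun b : Fin N' => Twist.twist (CohB1.polyGrading n k) (-deg' b)) b) ≫
      g ≫ ∑ a, pr deg a ≫ Sigma.ι (fun a : Fin N => Twist.twist (CohB1.polyGrading n k) (-deg a)) a := by
    rw [sum_pr_ι, sum_pr_ι, Category.id_comp, Category.comp_id]
  rw [h0, matHom]
  simp only [Preadditive.comp_sum, Preadditive.sum_comp, Category.assoc]
  refine Finset.sum_congr rfl fun a _ => Finset.sum_congr rfl fun b _ => ?_
  rw [← Category.assoc g, ← Category.assoc (Sigma.ι _ b)]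
  exact congrArg (fun φ => pr deg' b ≫ φ ≫ _) (he a b)

/-- A row as a morphism to a twist. -/
def rowHom (c : ℤ) (v : Fin N → S n k) (hv : ∀ a, v a ∈ G n k (c + deg a)) :
    Fr (r := n) (k := k) deg ⟶ Tw k n c :=
  Sigma.desc fun a => mulHom (n := -deg a) (n' := c) (hv a) (by omega)

theorem ι_rowHom (c : ℤ) (v : Fin N → S n k) (hv : ∀ a, v a ∈ G n k (c + deg a)) (a : Fin N) :
    Sigma.ι (fun a : Fin N => Twist.twist (CohB1.polyGrading n k) (-deg a)) a ≫ rowHom c v hv =
      mulHom (n := -deg a) (n' := c) (hv a) (by omega) := Sigma.ι_desc _ _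

/-- Every morphism to a twist is a row. -/
theorem exists_rowHom (hn : 1 ≤ n) {c : ℤ} (φ : Fr (r := n) (k := k) deg ⟶ Tw k n c) :
    ∃ (v : Fin N → S n k) (hv : ∀ a, v a ∈ G n k (c + deg a)), φ = rowHom c v hv := by
  have h := fun a => exists_eq_mulHom hn
    (Sigma.ι (fun a : Fin N => Twist.twist (CohB1.polyGrading n k) (-deg a)) a ≫ φ)
  choose v hv he using h
  refine ⟨v, fun a => by have := hv a; rwa [show c - -deg a = c + deg a by ring] at this, Sigma.hom_ext _ _ fun a => ?_⟩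
  rw [ι_rowHom]
  exact he a

theorem rowHom_eq_zero_iff (c : ℤ) (v : Fin N → S n k) (hv : ∀ a, v a ∈ G n k (c + deg a)) :
    rowHom c v hv = 0 ↔ v = 0 := by
  constructor
  · intro h
    funext a
    refine (mulHom_eq_zero_iff (hv a) (show -deg a + (c + deg a) = c by omega)).1 ?_
    rw [← ι_rowHom c v hv a, h, comp_zero]
  · intro h
    refine Sigma.hom_ext _ _ fun a => ?_
    rw [ι_rowHom, comp_zero, mulHom_eq_zero_iff, h, Pi.zero_apply]

theorem ι_matHom (d : Fin N → Fin N' → S n k) (hd : ∀ a b, d a b ∈ G n k (deg' b - deg a)) (b : Fin N') :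
    Sigma.ι (fun b : Fin N' => Twist.twist (CohB1.polyGrading n k) (-deg' b)) b ≫ matHom d hd =
      ∑ a, mulHom (n := -deg' b) (n' := -deg a) (hd a b) (by omega) ≫
        Sigma.ι (fun a : Fin N => Twist.twist (CohB1.polyGrading n k) (-deg a)) a := by
  rw [matHom, Preadditive.comp_sum]
  refine Finset.sum_congr rfl fun a _ => ?_
  rw [Preadditive.comp_sum, Finset.sum_eq_single b]
  · rw [← Category.assoc, ι_pr_self, Category.id_comp]
  · intro b' _ hb
    rw [← Category.assoc, ι_pr_ne deg' (Ne.symm hb), zero_comp]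
  · intro h; exact absurd (Finset.mem_univ b) h

theorem matHom_rowHom_eq_zero_iff (d : Fin N → Fin N' → S n k) (hd : ∀ a b, d a b ∈ G n k (deg' b - deg a))
    (c : ℤ) (v : Fin N → S n k) (hv : ∀ a, v a ∈ G n k (c + deg a)) :
    matHom d hd ≫ rowHom c v hv = 0 ↔ ∀ b, ∑ a, v a * d a b = 0 := by
  have key : ∀ b, ∃ hm : (∑ a, v a * d a b) ∈ G n k (c + deg' b),
      Sigma.ι (fun b : Fin N' => Twist.twist (CohB1.polyGrading n k) (-deg' b)) b ≫ matHom d hd ≫ rowHom c v hv =
        mulHom (n := -deg' b) (n' := c) hm (by omega) := by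
    intro b
    have hm : ∀ a, v a * d a b ∈ G n k (c + deg' b) := fun a => by
      have := mul_mem_G (hv a) (hd a b)
      rwa [show c + deg a + (deg' b - deg a) = c + deg' b by ring] at this
    refine ⟨sum_mem fun a _ => hm a, ?_⟩
    rw [← Category.assoc, ι_matHom, Preadditive.sum_comp, ← mulHom_sum _ _ _ hm]
    refine Finset.sum_congr rfl fun a _ => ?_
    rw [Category.assoc, ι_rowHom]
    exact mulHom_comp _ _ _ _ _ (hm a)
  constructor
  · intro h b
    obtain ⟨hm, e⟩ := key b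
    rw [h, comp_zero] at e
    exact (mulHom_eq_zero_iff hm _).1 e.symm
  · intro h
    refine Sigma.hom_ext _ _ fun b => ?_
    obtain ⟨hm, e⟩ := key b
    rw [e, comp_zero, mulHom_eq_zero_iff]
    exact h b

end Groth.L03.VBPn.GM
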