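import Groth.Agent.L03.VBPn.GM.Family

/-!
# Rows on every hyperplane, unique on a generic line, come from the space

The hyperplane with parameters `s` is `x_last = ∑ s_j x_j`. For a line with parameters `(s_i, t_i)` and a slope
`c` the hyperplane through the line with slope `c` moves the derivations `D_i + c_i D_last` inside itself.
-/

set_option autoImplicit false
set_option linter.unusedSectionVars false

universe u

open MvPolynomial

noncomputable section

namespace Groth.L03.VBPn.GM

variable {r : ℕ} {k : Type u} [Field k]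

/-- The hyperplane with given parameters. -/
def phiH (s : Fin (r + 1 + 1) → k) : P (r + 1) k →ₐ[k] P r k :=
  aeval (Fin.snoc (α := fun _ => P r k) X (∑ j, C (s j) * X j))

/-- The universal hyperplane. -/
def PsiH : P (r + 1) k →+* MvPolynomial (Fin (r + 1 + 1)) (MvPolynomial (Fin (r + 1 + 1)) k) :=
  eval₂Hom (C.comp C) (Fin.snoc (α := fun _ => MvPolynomial (Fin (r + 1 + 1)) (MvPolynomial (Fin (r + 1 + 1)) k)) X
    (∑ j, C (X j) * X j))

theorem map_PsiH (s : Fin (r + 1 + 1) → k) (g : P (r + 1) k) :
    MvPolynomial.map (eval s) (PsiH g) = phiH s g := by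
  refine RingHom.congr_fun (f := (MvPolynomial.map (eval s)).comp PsiH) (g := (phiH s).toRingHom)
    (MvPolynomial.ringHom_ext (fun a => by simp [PsiH, phiH]) fun j => ?_) g
  induction j using Fin.lastCases with
  | last => simp [PsiH, phiH]
  | cast j => simp [PsiH, phiH]

/-- The parameters of the hyperplane through a line. -/
def slope {A : Type*} [CommRing A] (s t : Fin (r + 1) → A) (c : Fin r → A) : Fin (r + 1 + 1) → A :=
  Fin.cases (t (Fin.last r) - ∑ i, c i * t i.castSucc)
    (Fin.cases (s (Fin.last r) - ∑ i, c i * s i.castSucc) c)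

/-- The coordinates of a point of a line. -/
def coords {A : Type*} [CommRing A] (s t : Fin (r + 1) → A) (l m : A) : Fin (r + 1 + 1) → A :=
  Fin.cases l (Fin.cases m fun i => l * t i.castSucc + m * s i.castSucc)

/-- The universal hyperplane along the universal line, for a fixed slope. -/
def tau (c : Fin r → k) : MvPolynomial (Fin (r + 1 + 1)) (MvPolynomial (Fin (r + 1 + 1)) k) →+* R (r + 1) k :=
  eval₂Hom (eval₂Hom C (slope (sv (r + 1) k) (tv (r + 1) k) fun i => C (c i)))
    (coords (sv (r + 1) k) (tv (r + 1) k) (lam (r + 1) k) (mu (r + 1) k))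

/-- The first coordinates of the parameters of a line. -/
def sub (st : Fin (r + 1) ⊕ Fin (r + 1) → k) : Fin r ⊕ Fin r → k := fun j => st (Sum.map Fin.castSucc Fin.castSucc j)

/-- The parameters of the hyperplane through the line. -/
def hyp (st : Fin (r + 1) ⊕ Fin (r + 1) → k) (c : Fin r → k) : Fin (r + 1 + 1) → k :=
  slope (fun i => st (Sum.inl i)) (fun i => st (Sum.inr i)) c

theorem ev_tau (st : Fin (r + 1) ⊕ Fin (r + 1) → k) (c : Fin r → k)
    (v : MvPolynomial (Fin (r + 1 + 1)) (MvPolynomial (Fin (r + 1 + 1)) k)) :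
    ev st (tau c v) = phi (sub st) (MvPolynomial.map (eval (hyp st c)) v) := by
  refine RingHom.congr_fun (f := (ev st).toRingHom.comp (tau c))
    (g := (phi (sub st)).toRingHom.comp (MvPolynomial.map (eval (hyp st c))))
    (MvPolynomial.ringHom_ext (fun a => ?_) fun j => ?_) v
  · refine RingHom.congr_fun (f := ((ev st).toRingHom.comp (tau c)).comp C)
      (g := ((phi (sub st)).toRingHom.comp (MvPolynomial.map (eval (hyp st c)))).comp C)
      (MvPolynomial.ringHom_ext (fun z => by simp [tau, ev, phi]) fun j => ?_) a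
    induction j using Fin.cases with
    | zero => simp [tau, ev, phi, slope, hyp]
    | succ j =>
      induction j using Fin.cases with
      | zero => simp [tau, ev, phi, slope, hyp]
      | succ i => simp [tau, ev, phi, slope, hyp]
  · induction j using Fin.cases with
    | zero => simp [tau, ev, phi, coords]
    | succ j =>
      induction j using Fin.cases with
      | zero => simp [tau, ev, phi, coords]
      | succ i =>
        simp [tau, ev, phi, coords, sub]
        ring

theorem phi_sub_phiH (st : Fin (r + 1) ⊕ Fin (r + 1) → k) (c : Fin r → k) (g : P (r + 1) k) :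
    phi (sub st) (phiH (hyp st c) g) = phi st g := by
  refine congrArg (fun φ : P (r + 1) k →ₐ[k] L k => φ g)
    (show (phi (sub st)).comp (phiH (hyp st c)) = phi st from MvPolynomial.algHom_ext fun j => ?_)
  induction j using Fin.lastCases with
  | last =>
    rw [show (Fin.last (r + 1 + 1) : Fin (r + 1 + 1 + 1)) = (Fin.last r).succ.succ from rfl]
    simp only [AlgHom.comp_apply, phi, phiH, aeval_X, Fin.cases_succ]
    rw [show ((Fin.last r).succ.succ : Fin (r + 1 + 1 + 1)) = Fin.last (r + 1 + 1) from rfl, Fin.snoc_last, map_sum,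
      Fin.sum_univ_succ, Fin.sum_univ_succ]
    simp [hyp, slope, sub, Finset.sum_add_distrib, mul_add, Finset.sum_mul, mul_assoc, sub_mul]
  | cast j =>
    simp only [AlgHom.comp_apply, phi, phiH, aeval_X, Fin.snoc_castSucc]
    induction j using Fin.cases with
    | zero => rfl
    | succ j =>
      induction j using Fin.cases with
      | zero => rfl
      | succ i => simp [sub]

/-- The derivation along the hyperplane. -/
def DH (c : Fin r → k) (i : Fin r) (g : R (r + 1) k) : R (r + 1) k :=
  D i.castSucc g + C (c i) * D (Fin.last r) g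

theorem D_sub (i : Fin r) (f g : R r k) : D i (f - g) = D i f - D i g := by
  simp only [D, map_sub]; ring

theorem DH_mul (c : Fin r → k) (i : Fin r) (f g : R (r + 1) k) : DH c i (f * g) = DH c i f * g + f * DH c i g := by
  simp only [DH, D_mul]; ring

theorem D_sv (i j : Fin r) : D i (sv r k j) = if j = i then -lam r k else 0 := by
  by_cases h : j = i
  · subst h; simp [D]
  · simp [D, h]

theorem D_tv (i j : Fin r) : D i (tv r k j) = if j = i then mu r k else 0 := by
  by_cases h : j = i
  · subst h; simp [D]
  · simp [D, h]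

theorem D_lam (i : Fin r) : D i (lam r k) = 0 := by simp [D]

theorem D_mu (i : Fin r) : D i (mu r k) = 0 := by simp [D]

theorem DH_tau (c : Fin r → k) (i : Fin r)
    (v : MvPolynomial (Fin (r + 1 + 1)) (MvPolynomial (Fin (r + 1 + 1)) k)) : DH c i (tau c v) = 0 := by
  have hadd : ∀ f g : R (r + 1) k, DH c i (f + g) = DH c i f + DH c i g := fun f g => by
    simp only [DH, D_add]; ring
  have hne : (i.castSucc : Fin (r + 1)) ≠ Fin.last r := (Fin.castSucc_lt_last i).ne
  induction v using MvPolynomial.induction_on with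
  | add p q hp hq => rw [map_add, hadd, hp, hq, add_zero]
  | mul_X p j hp =>
    rw [map_mul, DH_mul, hp, zero_mul, zero_add]
    suffices h : DH c i (tau c (X j)) = 0 by rw [h, mul_zero]
    rw [tau, eval₂Hom_X']
    induction j using Fin.cases with
    | zero => simp [coords, DH, D_lam]
    | succ j =>
      induction j using Fin.cases with
      | zero => simp [coords, DH, D_mu]
      | succ l =>
        simp only [coords, Fin.cases_succ, DH, D_add, D_mul, D_lam, D_mu, D_sv, D_tv, Fin.castSucc_inj,
          if_neg (Fin.castSucc_lt_last l).ne, zero_mul, mul_zero, add_zero, zero_add]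
        split_ifs <;> ring
  | C a =>
    induction a using MvPolynomial.induction_on with
    | C z => simp [tau, DH, D_C]
    | add p q hp hq => rw [map_add, map_add, hadd, hp, hq, add_zero]
    | mul_X p j hp =>
      rw [map_mul, map_mul, DH_mul, hp, zero_mul, zero_add]
      suffices h : DH c i (tau c (C (X j))) = 0 by rw [h, mul_zero]
      rw [tau, eval₂Hom_C, eval₂Hom_X']
      induction j using Fin.cases with
      | zero =>
        simp only [slope, Fin.cases_zero, DH, D_sub, D_sum, D_mul, D_C, D_tv, Fin.castSucc_inj, if_neg hne.symm,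
          fun l : Fin r => if_neg (α := R (r + 1) k) (t := mu (r + 1) k) (e := 0) (Fin.castSucc_lt_last l).ne,
          if_true, zero_mul, zero_add, mul_ite, mul_zero, Finset.sum_ite_eq', Finset.mem_univ, Finset.sum_const_zero]
        ring
      | succ j =>
        induction j using Fin.cases with
        | zero =>
          simp only [slope, Fin.cases_zero, Fin.cases_succ, DH, D_sub, D_sum, D_mul, D_C, D_sv, Fin.castSucc_inj,
            if_neg hne.symm,
            fun l : Fin r => if_neg (α := R (r + 1) k) (t := -lam (r + 1) k) (e := 0) (Fin.castSucc_lt_last l).ne,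
            if_true, zero_mul, zero_add, mul_ite, mul_zero, Finset.sum_ite_eq', Finset.mem_univ, Finset.sum_const_zero]
          ring
        | succ l => simp [slope, DH, D_C]

theorem exists_tau_ne_zero [Infinite k] {v : MvPolynomial (Fin (r + 1 + 1)) (MvPolynomial (Fin (r + 1 + 1)) k)}
    (hv : v ≠ 0) : ∃ c, tau c v ≠ 0 := by
  by_contra hall
  push Not at hall
  refine hv (MvPolynomial.ext _ _ fun d => MvPolynomial.funext fun s => ?_)
  rw [coeff_zero, map_zero, ← coeff_map]
  suffices h : MvPolynomial.map (eval s) v = 0 by rw [h, coeff_zero]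
  refine ((mul_eq_zero (a := (X (0 : Fin (r + 1 + 1)) : MvPolynomial (Fin (r + 1 + 1)) k))).1 (MvPolynomial.funext fun y => ?_)).resolve_left (X_ne_zero _)
  rw [map_mul, eval_X, map_zero]
  by_cases hy : y 0 = 0
  · rw [hy, zero_mul]
  -- a line through the point in the hyperplane
  let c : Fin r → k := fun i => s i.succ.succ
  let t : Fin r → k := fun i => y i.succ.succ / y 0
  let st : Fin (r + 1) ⊕ Fin (r + 1) → k :=
    Sum.elim (Fin.snoc (α := fun _ => k) (fun _ => 0) (s (Fin.succ 0)))
      (Fin.snoc (α := fun _ => k) t (s 0 + ∑ i, c i * t i))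
  have hs : hyp st c = s := funext fun j => by
    induction j using Fin.cases with
    | zero => simp [hyp, slope, st]
    | succ j =>
      induction j using Fin.cases with
      | zero => simp [hyp, slope, st]
      | succ i => simp [hyp, slope, c]
  have hp : ∀ u : P r k, eval ![y 0, y (Fin.succ 0)] (phi (sub st) u) = eval y u := fun u => by
    refine RingHom.congr_fun (f := (eval ![y 0, y (Fin.succ 0)]).comp (phi (sub st)).toRingHom) (g := eval y)
      (MvPolynomial.ringHom_ext (fun a => by simp [phi]) fun j => ?_) u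
    induction j using Fin.cases with
    | zero => simp [phi]
    | succ j =>
      induction j using Fin.cases with
      | zero => simp [phi]
      | succ i =>
        simp [phi, sub, st, t]
        exact div_mul_cancel₀ _ hy
  have h := congrArg (fun u : L k => eval ![y 0, y (Fin.succ 0)] u)
    (ev_tau st c v)
  simp only [hall c, map_zero, hs, hp] at h
  rw [← h, mul_zero]

theorem eval_ne_zero_mul [Infinite k] {Q : St r k} (hQ : Q ≠ 0) {g : R r k}
    (h : ∀ st, eval st Q ≠ 0 → ev st g = 0) : g = 0 := by
  refine (mul_eq_zero.1 (eq_zero_of_ev fun st => ?_ : rename Sum.inl Q * g = 0)).resolve_left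
    ((map_ne_zero_iff _ (rename_injective _ Sum.inl_injective)).2 hQ)
  have hQst : ev st (rename Sum.inl Q) = C (eval st Q) :=
    RingHom.congr_fun (f := (ev st).toRingHom.comp (rename Sum.inl : St r k →ₐ[k] R r k).toRingHom)
      (g := C.comp (eval st)) (MvPolynomial.ringHom_ext (fun a => by simp [ev]) fun l => by simp [ev]) Q
  rw [map_mul, hQst]
  by_cases hst : eval st Q = 0
  · rw [hst, C_0, zero_mul]
  · rw [h st hst, mul_zero]

variable [Infinite k] {N M e f : ℕ} (A : Fin N → Fin M → P (r + 1) k)
  (hH : ∀ s : Fin (r + 1 + 1) → k, ∃ u : Fin N → P r k, (∀ a, (u a).IsHomogeneous e) ∧ u ≠ 0 ∧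
    ∀ b, ∑ a, u a * phiH s (A a b) = 0)

include hH in
/-- The family on the hyperplanes, seen on the lines. -/
theorem exists_restricted : ∃ (J : Fin N) (v : Fin N → MvPolynomial (Fin (r + 1 + 1)) (MvPolynomial (Fin (r + 1 + 1)) k)),
    v J ≠ 0 ∧ ∀ (c : Fin r → k) st, (∀ a, (ev st (tau c (v a))).IsHomogeneous e) ∧
      ∀ b, ∑ a, ev st (tau c (v a)) * phi st (A a b) = 0 := by
  obtain ⟨v, hv, hv0, hvA⟩ := exists_family (PsiH (r := r) (k := k)) A e fun s => by
    obtain ⟨u, h1, h2, h3⟩ := hH s
    exact ⟨u, h1, h2, fun b => by simp only [map_PsiH]; exact h3 b⟩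
  obtain ⟨J, hJ⟩ := Function.ne_iff.1 hv0
  refine ⟨J, v, hJ, fun c st => ⟨fun a => ?_, fun b => ?_⟩⟩
  · rw [ev_tau]
    have := ((hv a).map (eval (hyp st c))).aeval (n := 1)
      (Fin.cases (X 0 : L k) (Fin.cases (X 1) fun i => C (sub st (Sum.inr i)) * X 0 + C (sub st (Sum.inl i)) * X 1))
      fun l => by
        induction l using Fin.cases with
        | zero => exact isHomogeneous_X k _
        | succ l =>
          induction l using Fin.cases with
          | zero => exact isHomogeneous_X k _
          | succ i => exact ((isHomogeneous_X k _).C_mul _).add ((isHomogeneous_X k _).C_mul _)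
    rw [one_mul] at this
    exact this
  · have h : MvPolynomial.map (eval (hyp st c)) (∑ a, v a * PsiH (A a b)) = 0 := by rw [hvA, map_zero]
    simp only [map_sum, map_mul, map_PsiH] at h
    have h' := congrArg (phi (sub st)) h
    simp only [map_sum, map_mul, map_zero, phi_sub_phiH] at h'
    simp only [ev_tau]
    exact h'

include hH in
/-- If a generic line has no rows, neither has some hyperplane. -/
theorem false_of_no_rows {Q : St (r + 1) k} (hQ : Q ≠ 0)
    (hno : ∀ st, eval st Q ≠ 0 → ∀ u : Fin N → L k, (∀ a, (u a).IsHomogeneous e) →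
      (∀ b, ∑ a, u a * phi st (A a b) = 0) → u = 0) : False := by
  obtain ⟨J, v, hJ, hv⟩ := exists_restricted A hH
  obtain ⟨c, hc⟩ := exists_tau_ne_zero hJ
  exact hc (eval_ne_zero_mul hQ fun st hst => congrFun (hno st hst _ (hv c st).1 (hv c st).2) J)

include hH in
/-- Rows on every hyperplane, unique on a generic line, come from the space. -/
theorem exists_global_hyp [CharZero k] (hr : 1 ≤ r) (hA : ∀ a b, (A a b).IsHomogeneous f)
    {Q : St (r + 1) k} (hQ : Q ≠ 0)
    (hrigid : ∀ st, eval st Q ≠ 0 → ∀ u w : Fin N → L k, (∀ a, (u a).IsHomogeneous e) →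
      (∀ a, (w a).IsHomogeneous e) → (∀ b, ∑ a, u a * phi st (A a b) = 0) →
      (∀ b, ∑ a, w a * phi st (A a b) = 0) → ∀ I J, u I * w J = u J * w I)
    (hline : ∀ st : Fin (r + 1) ⊕ Fin (r + 1) → k, ∃ u : Fin N → L k, (∀ a, (u a).IsHomogeneous e) ∧ u ≠ 0 ∧
      ∀ b, ∑ a, u a * phi st (A a b) = 0) :
    ∃ (j : ℕ) (w : Fin N → P (r + 1) k), j ≤ e ∧ (∀ a, (w a).IsHomogeneous j) ∧ w ≠ 0 ∧
      ∀ b, ∑ a, w a * A a b = 0 := by
  classical
  -- the family on the lines
  let eqv : R (r + 1) k ≃ₐ[k] MvPolynomial (Fin 2) (St (r + 1) k) :=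
    (renameEquiv k (Equiv.sumComm (Fin (r + 1) ⊕ Fin (r + 1)) (Fin 2))).trans
      (sumAlgEquiv k (Fin 2) (Fin (r + 1) ⊕ Fin (r + 1)))
  have hev : ∀ st g, ev st g = MvPolynomial.map (eval st) (eqv g) := fun st g => by
    refine RingHom.congr_fun (f := (ev st).toRingHom)
      (g := (MvPolynomial.map (eval st)).comp eqv.toAlgHom.toRingHom)
      (MvPolynomial.ringHom_ext (fun a => by simp [ev, eqv]) fun l => ?_) g
    rcases l with j | l
    · simp [ev, eqv]
    · fin_cases l <;> simp [ev, eqv]
  obtain ⟨σ', hσ', hσ0, hσA⟩ := exists_family (eqv.toAlgHom.toRingHom.comp (Psi (r + 1) k).toRingHom) A e fun st => by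
    obtain ⟨u, h1, h2, h3⟩ := hline st
    exact ⟨u, h1, h2, fun b => by simpa [← hev, ev_Psi] using h3 b⟩
  let σ : Fin N → R (r + 1) k := fun a => eqv.symm (σ' a)
  have hσev : ∀ st a, ev st (σ a) = MvPolynomial.map (eval st) (σ' a) := fun st a => by
    rw [hev, show eqv (σ a) = σ' a from eqv.apply_symm_apply _]
  have hsol : ∀ b, ∑ a, σ a * Psi (r + 1) k (A a b) = 0 := fun b => by
    refine eqv.injective ?_
    rw [map_sum, map_zero, ← hσA b]
    exact Finset.sum_congr rfl fun a _ => by
      rw [map_mul, show eqv (σ a) = σ' a from eqv.apply_symm_apply _]; rfl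
  have hscale : ∀ a, scale (σ a) = Polynomial.X ^ e * Polynomial.C (σ a) := fun a => by
    refine map_eq_pow_mul (scale.toRingHom.comp eqv.symm.toAlgHom.toRingHom)
      (Polynomial.C.comp eqv.symm.toAlgHom.toRingHom) Polynomial.X (fun p => ?_) (fun l => ?_) (hσ' a)
    · have he : eqv.symm (C p) = rename Sum.inl p := eqv.injective <| by
        rw [AlgEquiv.apply_symm_apply]
        exact RingHom.congr_fun (f := C) (g := eqv.toAlgHom.toRingHom.comp (rename Sum.inl).toRingHom)
          (MvPolynomial.ringHom_ext (fun a => by simp [eqv]) fun l => by simp [eqv]) p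
      show scale (eqv.symm (C p)) = Polynomial.C (eqv.symm (C p))
      rw [he]
      exact RingHom.congr_fun (f := scale.toRingHom.comp (rename Sum.inl).toRingHom)
        (g := Polynomial.C.comp (rename Sum.inl : St (r + 1) k →ₐ[k] R (r + 1) k).toRingHom)
        (MvPolynomial.ringHom_ext (fun a => by simp [scale]) fun l => by simp [scale]) p
    · have he : eqv.symm (X l) = X (Sum.inr l) := eqv.injective <| by
        rw [AlgEquiv.apply_symm_apply]; simp [eqv]
      show scale (eqv.symm (X l)) = Polynomial.X * Polynomial.C (eqv.symm (X l))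
      rw [he]; simp [scale]
  obtain ⟨J₀, hJ₀⟩ := Function.ne_iff.1 hσ0
  have hσJ : σ J₀ ≠ 0 := (map_ne_zero_iff _ eqv.symm.injective).2 hJ₀
  obtain ⟨J, v, hJ, hv⟩ := exists_restricted A hH
  have hident : ∀ c I I', σ I * tau c (v I') = σ I' * tau c (v I) := fun c I I' =>
    sub_eq_zero.1 (eval_ne_zero_mul hQ fun st hst => by
      rw [map_sub, map_mul, map_mul, hrigid st hst (fun a => ev st (σ a)) _ (fun a => by
        rw [hσev]; exact (hσ' a).map _) (hv c st).1 (fun b => by
          simp only [← ev_Psi, ← map_mul, ← map_sum, hsol, map_zero]) (hv c st).2 I I', sub_self])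
  obtain ⟨c₀, hc₀⟩ := exists_tau_ne_zero hJ
  refine descent A hA σ hscale hσJ hsol fun I L i => ?_
  let K : Fin (r + 1) → R (r + 1) k := fun i => σ I * D i (σ L) - σ L * D i (σ I)
  suffices hK : ∀ i : Fin r, K i.castSucc = 0 ∧ K (Fin.last r) = 0 by
    refine sub_eq_zero.1 (show K i = 0 from ?_)
    induction i using Fin.lastCases with
    | last => exact (hK ⟨0, hr⟩).2
    | cast i => exact (hK i).1
  intro i
  have hKc : ∀ c, (K i.castSucc + C (c i) * K (Fin.last r)) * tau c (v J) = 0 := fun c => by
    have hd : ∀ I', DH c i (σ I') * tau c (v J) = DH c i (σ J) * tau c (v I') := fun I' => by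
      have := congrArg (DH c i) (hident c I' J)
      rwa [DH_mul, DH_mul, DH_tau, DH_tau, mul_zero, add_zero, mul_zero, add_zero] at this
    by_cases h0 : tau c (v J) = 0
    · rw [h0, mul_zero]
    refine mul_eq_zero_of_left (mul_right_cancel₀ (mul_ne_zero h0 h0) ?_) _
    have e1 : K i.castSucc + C (c i) * K (Fin.last r) = σ I * DH c i (σ L) - σ L * DH c i (σ I) := by
      simp only [K, DH]; ring
    rw [e1, zero_mul]
    calc (σ I * DH c i (σ L) - σ L * DH c i (σ I)) * (tau c (v J) * tau c (v J))
        = σ I * tau c (v J) * (DH c i (σ L) * tau c (v J)) - σ L * tau c (v J) * (DH c i (σ I) * tau c (v J)) := by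
          ring
      _ = 0 := by rw [hident c I J, hident c L J, hd L, hd I]; ring
  -- vary the slope
  have hpt : ∀ z : Ix (r + 1) → k, eval z (tau c₀ (v J)) ≠ 0 →
      eval z (K i.castSucc) = 0 ∧ eval z (K (Fin.last r)) = 0 := by
    intro z hz
    let κ : MvPolynomial (Fin (r + 1 + 1)) (MvPolynomial (Fin (r + 1 + 1)) k) →+* MvPolynomial (Fin r) k :=
      eval₂Hom (eval₂Hom C (slope (fun j => C (z (Sum.inl (Sum.inl j)))) (fun j => C (z (Sum.inl (Sum.inr j)))) X))
        (coords (fun j => C (z (Sum.inl (Sum.inl j)))) (fun j => C (z (Sum.inl (Sum.inr j)))) (C (z (Sum.inr 0)))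
          (C (z (Sum.inr 1))))
    have hκ : ∀ c u, eval c (κ u) = eval z (tau c u) := fun c u => by
      refine RingHom.congr_fun (f := (eval c).comp κ) (g := (eval z).comp (tau c))
        (MvPolynomial.ringHom_ext (fun a => ?_) fun j => ?_) u
      · refine RingHom.congr_fun (f := ((eval c).comp κ).comp C) (g := ((eval z).comp (tau c)).comp C)
          (MvPolynomial.ringHom_ext (fun z => by simp [κ, tau]) fun j => ?_) a
        induction j using Fin.cases with
        | zero => simp [κ, tau, slope]
        | succ j =>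
          induction j using Fin.cases with
          | zero => simp [κ, tau, slope]
          | succ i => simp [κ, tau, slope]
      · induction j using Fin.cases with
        | zero => simp [κ, tau, coords]
        | succ j =>
          induction j using Fin.cases with
          | zero => simp [κ, tau, coords]
          | succ i => simp [κ, tau, coords]
    have hne : κ (v J) ≠ 0 := fun h => hz (by rw [← hκ, h, map_zero])
    have hlin : C (eval z (K i.castSucc)) + X i * C (eval z (K (Fin.last r))) = 0 := by
      refine (mul_eq_zero.1 (MvPolynomial.funext (p := _ * κ (v J)) (q := 0) fun c => ?_)).resolve_right hne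
      have := congrArg (eval z) (hKc c)
      simp only [map_mul, map_add, map_zero, eval_C] at this
      simp only [map_mul, map_add, map_zero, eval_C, eval_X, hκ]
      exact this
    have h0 := congrArg (eval (0 : Fin r → k)) hlin
    have h1 := congrArg (eval (fun _ => (1 : k))) hlin
    simp at h0 h1
    rw [h0, zero_add] at h1
    exact ⟨h0, h1⟩
  have hz : ∀ g : R (r + 1) k, (∀ z, eval z (tau c₀ (v J)) ≠ 0 → eval z g = 0) → g = 0 := fun g hg =>
    (mul_eq_zero.1 (MvPolynomial.funext (p := g * tau c₀ (v J)) (q := 0) fun z => by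
      rw [map_mul, map_zero]
      by_cases h : eval z (tau c₀ (v J)) = 0
      · rw [h, mul_zero]
      · rw [hg z h, zero_mul])).resolve_right hc₀
  exact ⟨hz _ fun z h => (hpt z h).1, hz _ fun z h => (hpt z h).2⟩

end Groth.L03.VBPn.GM
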