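import Groth.Agent.L03.VBPn.GM.Main
import Groth.Agent.L03.VBPn.GM.Hyp
import Groth.Agent.L20.ExtPull

/-!
# Semistable restriction to some hyperplane, rank two
-/

set_option autoImplicit false
set_option linter.style.haveILetI false
set_option linter.unusedSectionVars false
set_option backward.isDefEq.respectTransparency false
set_option backward.isDefEq.respectTransparency.types false

universe u

open CategoryTheory CategoryTheory.Limits AlgebraicGeometry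
open Groth.L22.SyzTilde (G S PS Fr pr matHom mulHom mem_G_cast)
open Groth.L22.Reg (O' cI)
open Groth.L00.Tensor (tensorMap tensorIso tensorComm)
open scoped HomogeneousIdeal

noncomputable section

namespace Groth.L03.VBPn.GM

variable {k : Type u} [Field k]

section Hyperplanes

variable {r : ℕ} (s : Fin (r + 1 + 1) → k)

theorem phiH_mem {d : ℕ} {g : P (r + 1) k} (hg : g ∈ CohB1.polyGrading (r + 1 + 1) k d) :
    phiH s g ∈ CohB1.polyGrading (r + 1) k d := by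
  refine (MvPolynomial.mem_homogeneousSubmodule d _).2 ?_
  rw [show d = 1 * d by omega]
  refine MvPolynomial.IsHomogeneous.aeval ((MvPolynomial.mem_homogeneousSubmodule d _).1 hg) _ fun l => ?_
  induction l using Fin.lastCases with
  | last =>
    rw [Fin.snoc_last]
    exact MvPolynomial.IsHomogeneous.sum _ _ _ fun j _ => (MvPolynomial.isHomogeneous_X k j).C_mul _
  | cast j =>
    rw [Fin.snoc_castSucc]
    exact MvPolynomial.isHomogeneous_X k j

/-- The graded homomorphism of a hyperplane. -/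
def phiHGr : CohB1.polyGrading (r + 1 + 1) k →+*ᵍ CohB1.polyGrading (r + 1) k :=
  { (phiH s).toRingHom with map_mem := fun {_ _} h => phiH_mem s h }

theorem phiHGr_apply (g : P (r + 1) k) : phiHGr s g = phiH s g := rfl

theorem phiHGr_surjective : Function.Surjective (phiHGr s) := fun g => by
  refine ⟨MvPolynomial.rename Fin.castSucc g, ?_⟩
  rw [phiHGr_apply, phiH, MvPolynomial.aeval_rename]
  have h : (Fin.snoc (α := fun _ => P r k) MvPolynomial.X (∑ j, MvPolynomial.C (s j) * MvPolynomial.X j)) ∘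
      Fin.castSucc = MvPolynomial.X := funext fun l => by simp
  rw [h, MvPolynomial.aeval_X_left_apply]

theorem phiHGr_irrelevant :
    (CohB1.polyGrading (r + 1) k)₊ ≤ ((CohB1.polyGrading (r + 1 + 1) k)₊).map (phiHGr s) := by
  show (HomogeneousIdeal.irrelevant (CohB1.polyGrading (r + 1) k)).toIdeal ≤
    ((HomogeneousIdeal.irrelevant (CohB1.polyGrading (r + 1 + 1) k)).map (phiHGr s)).toIdeal
  refine (Groth.L16.ProjSpace.irrelevant_le_span (r + 1) k).trans (Ideal.span_le.2 ?_)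
  rintro _ ⟨l, rfl⟩
  refine (show (MvPolynomial.X l : P r k) = phiHGr s (MvPolynomial.X l.castSucc) by
    rw [phiHGr_apply, phiH, MvPolynomial.aeval_X, Fin.snoc_castSucc]) ▸ ?_
  exact Ideal.mem_map_of_mem _ (HomogeneousIdeal.mem_irrelevant_of_mem _ one_pos (Groth.L16.ProjSpace.X_mem _ k _))

/-- The hyperplane. -/
def hypMap : CohB1.ProjSpace (r + 1) k ⟶ CohB1.ProjSpace (r + 1 + 1) k :=
  Proj.map (phiHGr s) (phiHGr_irrelevant s)

theorem hypMap_spec : IsClosedImmersion (hypMap s) ∧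
    hypMap s ≫ CohB1.ProjSpace.toSpec (r + 1 + 1) k = CohB1.ProjSpace.toSpec (r + 1) k ∧
    Nonempty ((Scheme.Modules.pullback (hypMap s)).obj (Twist.twistProjSpace (r + 1 + 1) k 1) ≅
      Twist.twistProjSpace (r + 1) k 1) := by
  refine ⟨Groth.L18.map_isClosedImmersion _ _ (phiHGr_surjective s), ?_, ?_⟩
  · simp only [hypMap, CohB1.ProjSpace.toSpec]
    rw [← Category.assoc, Groth.L18.FinProj.map_toSpecZero, Category.assoc, ← Spec.map_comp, ← CommRingCat.ofHom_comp]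
    congr 3
    refine RingHom.ext fun c => Subtype.ext ?_
    exact (phiH s).commutes c
  · haveI := isIso_twHom (phiHGr s) (phiHGr_irrelevant s) 1
    exact ⟨asIso (twHom (phiHGr s) (phiHGr_irrelevant s) 1)⟩

end Hyperplanes

section Rows

variable {n N M : ℕ} {E : (PS n k).Modules} {dq : Fin N → ℤ} {dp : Fin M → ℤ}
  (π : Fr (r := n) (k := k) dq ⟶ E) [Epi π] (A : Fin N → Fin M → S n k) (hA : ∀ a b, A a b ∈ G n k (dp b - dq a))
  (hzero : matHom A hA ≫ π = 0)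
  (hdesc : ∀ (T : (PS n k).Modules) (f : Fr (r := n) (k := k) dq ⟶ T), matHom A hA ≫ f = 0 → ∃ f', π ≫ f' = f)
  {m : ℕ} (hm : 1 ≤ m) (ψ : CohB1.polyGrading n k →+*ᵍ CohB1.polyGrading m k)
  (hψ : (CohB1.polyGrading m k)₊ ≤ ((CohB1.polyGrading n k)₊).map ψ)

include hzero hm in
/-- A nonzero map to a twist on the subspace gives a nonzero row. -/
theorem exists_row_of_hom {d : ℤ} {φ : (PB ψ hψ).obj E ⟶ Tw k m d} (hφ : φ ≠ 0) :
    ∃ v : Fin N → S m k, (∀ a, v a ∈ G m k (d + dq a)) ∧ v ≠ 0 ∧ ∀ b, ∑ a, v a * ψ (A a b) = 0 := by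
  obtain ⟨θ, hθ⟩ := exists_Fr_iso ψ hψ dq
  obtain ⟨θ', hθ'⟩ := exists_Fr_iso ψ hψ dp
  obtain ⟨v, hv, hve⟩ := exists_rowHom hm (θ.inv ≫ (PB ψ hψ).map π ≫ φ)
  refine ⟨v, hv, fun hv0 => hφ ?_, ?_⟩
  · rw [(rowHom_eq_zero_iff _ v hv).2 hv0] at hve
    refine (cancel_epi ((PB ψ hψ).map π)).1 ((cancel_epi θ.inv).1 ?_)
    rw [comp_zero, comp_zero]
    exact hve
  · refine (matHom_rowHom_eq_zero_iff (fun a b => ψ (A a b)) (fun a b => mapG ψ (hA a b)) _ v hv).1 ?_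
    rw [← hve, ← cancel_epi θ'.hom, comp_zero, ← Category.assoc, ← map_matHom ψ hψ dq dp hθ hθ' A hA,
      Category.assoc, Iso.hom_inv_id_assoc, ← Functor.map_comp_assoc, hzero, Functor.map_zero, zero_comp]

include hdesc hm in
/-- A row gives a map to a twist on the subspace. -/
theorem exists_hom_of_row {θ : (PB ψ hψ).obj (Fr dq) ≅ Fr dq}
    (hθ : ∀ a, (PB ψ hψ).map (Sigma.ι (fun a : Fin N => Twist.twist (CohB1.polyGrading n k) (-dq a)) a) ≫ θ.hom =
        twHom ψ hψ (-dq a) ≫ Sigma.ι (fun a : Fin N => Twist.twist (CohB1.polyGrading m k) (-dq a)) a)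
    {d : ℤ} (u : Fin N → S m k) (hu : ∀ a, u a ∈ G m k (d + dq a)) (huA : ∀ b, ∑ a, u a * ψ (A a b) = 0) :
    ∃ χ : (PB ψ hψ).obj E ⟶ Tw k m d, (PB ψ hψ).map π ≫ χ = θ.hom ≫ rowHom d u hu := by
  obtain ⟨θ', hθ'⟩ := exists_Fr_iso ψ hψ dp
  have h0 : matHom (fun a b => ψ (A a b)) (fun a b => mapG ψ (hA a b)) ≫ rowHom d u hu = 0 :=
    (matHom_rowHom_eq_zero_iff _ (fun a b => mapG ψ (hA a b)) _ u hu).2 huA
  exact exists_desc_map (PB ψ hψ) _ (Scheme.Modules.pullbackPushforwardAdjunction _) hdesc (θ.hom ≫ rowHom d u hu)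
    (by rw [← Category.assoc, map_matHom ψ hψ dq dp hθ hθ' A hA, Category.assoc, h0, comp_zero])

include hdesc hm in
/-- No small rows on a split bundle. -/
theorem row_eq_zero {a b d : ℤ} (ha : d < a) (hb : d < b) (g : (PB ψ hψ).obj E ≅ Tw k m a ⊞ Tw k m b)
    (u : Fin N → S m k) (hu : ∀ l, u l ∈ G m k (d + dq l)) (huA : ∀ l, ∑ j, u j * ψ (A j l) = 0) : u = 0 := by
  obtain ⟨θ, hθ⟩ := exists_Fr_iso ψ hψ dq
  obtain ⟨χ, hχ⟩ := exists_hom_of_row π A hA hdesc hm ψ hψ hθ u hu huA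
  have h : g.inv ≫ χ = 0 := biprod.hom_ext' _ _ ((hom_eq_zero_of_lt hm ha _).trans comp_zero.symm)
    ((hom_eq_zero_of_lt hm hb _).trans comp_zero.symm)
  rw [Preadditive.IsIso.comp_left_eq_zero] at h
  rw [h, comp_zero] at hχ
  refine (rowHom_eq_zero_iff _ u hu).1 ?_
  rw [← cancel_epi θ.hom, ← hχ, comp_zero]

end Rows

section Split

variable {n N M : ℕ} {E : (PS n k).Modules} {dq : Fin N → ℤ} {dp : Fin M → ℤ}
  (π : Fr (r := n) (k := k) dq ⟶ E) [Epi π] (A : Fin N → Fin M → S n k) (hA : ∀ a b, A a b ∈ G n k (dp b - dq a))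
  (hdesc : ∀ (T : (PS n k).Modules) (f : Fr (r := n) (k := k) dq ⟶ T), matHom A hA ≫ f = 0 → ∃ f', π ≫ f' = f)
  (ψ : CohB1.polyGrading n k →+*ᵍ CohB1.polyGrading 1 k)
  (hψ : (CohB1.polyGrading 1 k)₊ ≤ ((CohB1.polyGrading n k)₊).map ψ)

include hdesc in
/-- Rows below the larger summand are multiples of one row. -/
theorem exists_rows_mul {d : Fin 2 → ℤ} (e : Groth.L21.P1.sumO k d ≅ (PB ψ hψ).obj E) :
    ∃ γ : Fin N → S 1 k, ∀ d' : ℤ, d' < d 0 → ∀ (u : Fin N → S 1 k), (∀ l, u l ∈ G 1 k (d' + dq l)) →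
      (∀ l, ∑ j, u j * ψ (A j l) = 0) → ∃ α : S 1 k, ∀ l, u l = α * γ l := by
  obtain ⟨θ, hθ⟩ := exists_Fr_iso ψ hψ dq
  let O := fun l : Fin 2 => Groth.L21.P1.O k (d l)
  obtain ⟨γ, hγ, hγe⟩ := exists_rowHom (n := 1) le_rfl (c := d 1) (θ.inv ≫ (PB ψ hψ).map π ≫ e.inv ≫ biproduct.π O 1)
  refine ⟨γ, fun d' hd' u hu huA => ?_⟩
  obtain ⟨χ, hχ⟩ := exists_hom_of_row π A hA hdesc le_rfl ψ hψ hθ u hu huA
  obtain ⟨α, hα, hαe⟩ := exists_eq_mulHom (n := 1) le_rfl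
    (show Tw k 1 (d 1) ⟶ Tw k 1 d' from biproduct.ι O 1 ≫ e.hom ≫ χ)
  have hz : biproduct.ι O 0 ≫ e.hom ≫ χ = 0 :=
    hom_eq_zero_of_lt (n := 1) le_rfl hd' (show Tw k 1 (d 0) ⟶ Tw k 1 d' from biproduct.ι O 0 ≫ e.hom ≫ χ)
  have hχ' : χ = e.inv ≫ biproduct.π O 1 ≫ mulHom (n := d 1) (n' := d') hα (by omega) := by
    rw [← cancel_epi e.hom, Iso.hom_inv_id_assoc, ← hαe]
    calc e.hom ≫ χ = (∑ l, biproduct.π O l ≫ biproduct.ι O l) ≫ e.hom ≫ χ := by
          rw [biproduct.total, Category.id_comp]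
      _ = _ := by
          rw [Fin.sum_univ_two, Preadditive.add_comp, Category.assoc, Category.assoc, hz, comp_zero, zero_add]
  obtain ⟨hag, hrm⟩ := rowHom_mulHom γ hγ hα (show d 1 + (d' - d 1) = d' by omega)
  refine ⟨α, fun a => congrFun (rowHom_inj hu hag ?_) a⟩
  rw [← hrm, ← hγe, ← cancel_epi θ.hom, ← hχ, hχ']
  simp only [Category.assoc, Iso.hom_inv_id_assoc]

end Split

/-- No rows on one line gives none on an open set of lines. -/
theorem exists_no_rows_lines [Infinite k] {r N M : ℕ} (A : Fin N → Fin M → P r k) {j : ℤ}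
    {st₀ : Fin r ⊕ Fin r → k}
    (h : ∀ u : Fin N → L k, (∀ a, u a ∈ G 1 k j) → (∀ b, ∑ a, u a * phi st₀ (A a b) = 0) → u = 0) :
    ∃ Q : St r k, Q ≠ 0 ∧ ∀ st, MvPolynomial.eval st Q ≠ 0 → ∀ u : Fin N → L k, (∀ a, u a ∈ G 1 k j) →
      (∀ b, ∑ a, u a * phi st (A a b) = 0) → u = 0 := by
  classical
  by_cases hj : j < 0
  · exact ⟨1, one_ne_zero, fun st _ u hu _ => funext fun a => Groth.L22.SyzTilde.eq_zero_of_mem_G_neg hj (hu a)⟩
  obtain ⟨e, rfl⟩ : ∃ e : ℕ, j = e := ⟨j.toNat, by omega⟩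
  let eqv : R r k ≃ₐ[k] MvPolynomial (Fin 2) (St r k) :=
    (MvPolynomial.renameEquiv k (Equiv.sumComm (Fin r ⊕ Fin r) (Fin 2))).trans
      (MvPolynomial.sumAlgEquiv k (Fin 2) (Fin r ⊕ Fin r))
  have hev : ∀ st g, ev st g = MvPolynomial.map (MvPolynomial.eval st) (eqv g) := fun st g => by
    refine RingHom.congr_fun (f := (ev st).toRingHom)
      (g := (MvPolynomial.map (MvPolynomial.eval st)).comp eqv.toAlgHom.toRingHom)
      (MvPolynomial.ringHom_ext (fun a => by simp [ev, eqv]) fun l => ?_) g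
    rcases l with j | l
    · simp [ev, eqv]
    · fin_cases l <;> simp [ev, eqv]
  have hΦ : ∀ st g, MvPolynomial.map (MvPolynomial.eval st)
      ((eqv.toAlgHom.toRingHom.comp (Psi r k).toRingHom) g) = phi st g := fun st g => by
    rw [← ev_Psi, hev]; rfl
  obtain ⟨Q, hQz, hQ⟩ := exists_no_rows (eqv.toAlgHom.toRingHom.comp (Psi r k).toRingHom) A e (z := st₀)
    fun u hu huA => h u (fun a => mem_G_cast.2 (hu a)) (by simpa only [hΦ] using huA)
  refine ⟨Q, fun h0 => hQz (by rw [h0, map_zero]), fun st hst u hu huA => ?_⟩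
  exact hQ st hst u (fun a => mem_G_cast.1 (hu a)) (by simpa only [hΦ] using huA)

variable [IsAlgClosed k] [CharZero k]

/-- Some hyperplane has semistable restriction. -/
theorem exists_hyperplane (r : ℕ) (hr : 1 ≤ r) (E : (CohB1.ProjSpace (r + 1 + 1) k).Modules)
    (hE : FlatMod.IsFinLocFreeOfRank 2 E) {L : (CohB1.ProjSpace (r + 1 + 1) k).Modules} {c k₀ : ℤ}
    (hL : ExtPow.IsExtPow 2 E L) (ξ : L ≅ O' (r + 1 + 1) k c) (hk₀ : c + 2 * k₀ = 0 ∨ c + 2 * k₀ = -1)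
    (hss : Subsingleton (Coh.HH (CohB1.ProjSpace (r + 1 + 1) k)
      (CohB1.tensorMod E (Twist.twistProjSpace (r + 1 + 1) k (-(c + k₀ + 1)))) 0)) :
    ∃ s : Fin (r + 1 + 1) → k, Subsingleton (Coh.HH (CohB1.ProjSpace (r + 1) k)
      (CohB1.tensorMod ((Scheme.Modules.pullback (hypMap s)).obj E)
        (Twist.twistProjSpace (r + 1) k (-(c + k₀ + 1)))) 0) := by
  classical
  by_contra hno
  push Not at hno
  obtain ⟨st₀, ⟨g₀⟩⟩ := exists_line (r + 1) E hE hL ξ hk₀ hss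
  haveI : IsLocallyNoetherian (CohB1.ProjSpace (r + 1 + 1) k) := by
    haveI := Groth.L22.Reg.isProper_over_proj (k := k) (n := r + 1 + 1)
    exact LocallyOfFiniteType.isLocallyNoetherian (CohB1.ProjSpace.toSpec (r + 1 + 1) k)
  haveI : IsLocallyNoetherian (CohB1.ProjSpace (r + 1) k) := by
    haveI := Groth.L22.Reg.isProper_over_proj (k := k) (n := r + 1)
    exact LocallyOfFiniteType.isLocallyNoetherian (CohB1.ProjSpace.toSpec (r + 1) k)
  haveI : IsIntegral (CohB1.ProjSpace (r + 1) k) := Groth.L16.ProjSpace.isIntegral (r + 1) k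
  haveI : IsIntegral (CohB1.ProjSpace (r + 1 + 1) k) := Groth.L16.ProjSpace.isIntegral (r + 1 + 1) k
  have hEc := Groth.L16.NegPow.isCoh_of_isFinLocFree (Groth.L03.VBPn.Tango.isFinLocFree_of_rank hE)
  obtain ⟨q, N, p0, -, hp0⟩ := Groth.L22.PDual.exists_epi_twists hEc 0
  haveI := hp0
  obtain ⟨p, M, p1, hqp, hp1⟩ := Groth.L22.PDual.exists_epi_twists
    (Groth.L16.CohKernel.isCoh_kernel_cokernel (Groth.L22.PDual.isCoh_sum N _) hEc p0).1 q
  haveI := hp1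
  let dq : Fin N → ℤ := fun _ => (q : ℤ)
  let dp : Fin M → ℤ := fun _ => (p : ℤ)
  let π : Fr (r := r + 1 + 1) (k := k) dq ⟶ E := p0
  haveI : Epi π := hp0
  obtain ⟨A, hA, hAe⟩ := exists_matHom (n := r + 1 + 1) (by omega)
    (show Fr (r := r + 1 + 1) (k := k) dp ⟶ Fr dq from p1 ≫ kernel.ι p0)
  have hzero : matHom A hA ≫ π = 0 := by
    rw [← hAe]
    show (p1 ≫ kernel.ι p0) ≫ p0 = 0
    rw [Category.assoc, kernel.condition, comp_zero]
  have hdesc : ∀ (T : (CohB1.ProjSpace (r + 1 + 1) k).Modules) (f : Fr (r := r + 1 + 1) (k := k) dq ⟶ T),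
      matHom A hA ≫ f = 0 → ∃ f', π ≫ f' = f := by
    intro T f hf
    rw [← hAe] at hf
    have hf' : kernel.ι p0 ≫ (show (∐ fun _ : Fin N => O' (r + 1 + 1) k (-(q : ℤ))) ⟶ T from f) = 0 :=
      (cancel_epi p1).1 (((Category.assoc _ _ _).symm.trans hf).trans comp_zero.symm)
    exact ⟨Abelian.epiDesc p0 _ hf', Abelian.comp_epiDesc p0 _ hf'⟩
  have hA' : ∀ a b, (A a b).IsHomogeneous (p - q) := fun a b => by
    have := hA a b
    rw [show dp b - dq a = (((p - q : ℕ)) : ℤ) by simp only [dp, dq]; omega, mem_G_cast] at this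
    exact this
  -- rows on the hyperplanes
  let m : ℤ := -k₀ - 1
  have hrowH : ∀ s : Fin (r + 1 + 1) → k, ∃ v : Fin N → S (r + 1) k,
      (∀ a, v a ∈ G (r + 1) k (m + dq a)) ∧ v ≠ 0 ∧ ∀ b, ∑ a, v a * phiH s (A a b) = 0 := by
    intro s
    obtain ⟨-, -, h1⟩ := hypMap_spec s
    have hEH := Groth.L12.StabLimit.isFinLocFreeOfRank_pullback (hypMap s) hE
    obtain ⟨σ, hσ⟩ := Groth.L03.ShStab.Rank2.exists_hom_of_H0 (k := k) (n := r + 1) (q := -(c + k₀ + 1))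
      (not_subsingleton_iff_nontrivial.2 (hno s))
    haveI := Groth.L03.ShStab.Rank2.isQCoh_of_rank hE
    obtain ⟨ext, hext⟩ := Groth.L20.ExtPull.isExtPow_pullback (f := hypMap s) hL
    obtain ⟨w⟩ := Groth.L03.VBPn.nonempty_pullback_twist (hypMap s) h1 c
    obtain ⟨u, hu⟩ := Groth.L03.ShStab.Rank2.exists_pairing ext hext σ
    have hu0 := Groth.L03.ShStab.Rank2.pairing_ne_zero ext hEH hσ hu
    obtain ⟨ζ⟩ := Groth.L03.ShStab.Rank2.exists_twist_inverse (k := k) (n := r + 1) (-(-(c + k₀ + 1)))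
    obtain ⟨l⟩ := Groth.L22.Reg.nonempty_O_add (n := r + 1) (R := k)
      (show c + -(-(-(c + k₀ + 1))) = m by simp only [m]; omega)
    let i := tensorIso ((Scheme.Modules.pullback (hypMap s)).mapIso ξ ≪≫ w)
      (Iso.refl (O' (r + 1) k (-(-(-(c + k₀ + 1)))))) ≪≫ l
    let t := (cI ζ ((Scheme.Modules.pullback (hypMap s)).obj E)).inv ≫ tensorMap u (𝟙 _) ≫ i.hom
    have ht : t ≠ 0 := fun h0 => by
      refine Groth.L03.ShStab.Rank2.tensorMap_ne_zero (tensorComm _ _ ≪≫ ζ) hu0 ?_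
      rw [← cancel_mono i.hom, ← cancel_epi (cI ζ ((Scheme.Modules.pullback (hypMap s)).obj E)).inv,
        zero_comp, comp_zero]
      exact h0
    exact exists_row_of_hom π A hA hzero (by omega) (phiHGr s) (phiHGr_irrelevant s) (φ := t) ht
  obtain ⟨e, he⟩ : ∃ e : ℕ, m + (q : ℤ) = (e : ℤ) := by
    obtain ⟨v, hv, hv0, -⟩ := hrowH 0
    refine ⟨(m + (q : ℤ)).toNat, (Int.toNat_of_nonneg ?_).symm⟩
    by_contra hlt
    exact hv0 (funext fun a => Groth.L22.SyzTilde.eq_zero_of_mem_G_neg (show m + (q : ℤ) < 0 by omega) (hv a))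
  have hG : ∀ (l : ℕ) {v : S l k}, v ∈ G l k (m + (q : ℤ)) ↔ v.IsHomogeneous e := fun l v => by
    rw [he, mem_G_cast]; rfl
  have hH : ∀ s : Fin (r + 1 + 1) → k, ∃ v : Fin N → P r k, (∀ a, (v a).IsHomogeneous e) ∧ v ≠ 0 ∧
      ∀ b, ∑ a, v a * phiH s (A a b) = 0 := fun s => by
    obtain ⟨v, hv, hv0, hvA⟩ := hrowH s
    exact ⟨v, fun a => (hG _).1 (hv a), hv0, hvA⟩
  -- the good lines
  have hnoQ : ∀ d : ℤ, d < -k₀ → d < c + k₀ → ∃ Q : St (r + 1) k, Q ≠ 0 ∧ ∀ st, MvPolynomial.eval st Q ≠ 0 →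
      ∀ u : Fin N → S 1 k, (∀ a, u a ∈ G 1 k (d + (q : ℤ))) → (∀ b, ∑ a, u a * phi st (A a b) = 0) → u = 0 :=
    fun d h1 h2 => exists_no_rows_lines A fun u hu huA =>
      row_eq_zero π A hA hdesc (m := 1) le_rfl (phiGr st₀) (phiGr_irrelevant st₀) h1 h2 g₀ u hu huA
  rcases hk₀ with hev | hodd
  · obtain ⟨Q, hQ0, hQ⟩ := hnoQ m (by omega) (by omega)
    exact false_of_no_rows A hH hQ0 fun st hst u hu huA => hQ st hst u (fun a => (hG _).2 (hu a)) huA
  obtain ⟨Q, hQ0, hQ⟩ := hnoQ (m - 1) (by omega) (by omega)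
  have hline : ∀ st : Fin (r + 1) ⊕ Fin (r + 1) → k, ∃ (d : Fin 2 → ℤ)
      (_ : Groth.L21.P1.sumO k d ≅ (Scheme.Modules.pullback (lineMap st)).obj E),
      d 1 ≤ d 0 ∧ d 0 + d 1 = c := by
    intro st
    obtain ⟨-, -, h1⟩ := lineMap_spec st
    obtain ⟨d, hd, ⟨z⟩⟩ := Groth.L21.P1.exists_splitting k
      (Groth.L12.StabLimit.isFinLocFreeOfRank_pullback (lineMap st) hE)
    exact ⟨d, z, hd (show (0 : Fin 2) ≤ 1 by decide), det_splitting (lineMap st) h1 hE hL ξ z⟩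
  have hrowL : ∀ st (d : Fin 2 → ℤ) (_ : Groth.L21.P1.sumO k d ≅ (Scheme.Modules.pullback (lineMap st)).obj E)
      (m' : ℤ), d 1 ≤ m' → ∃ v : Fin N → S 1 k, (∀ a, v a ∈ G 1 k (m' + dq a)) ∧ v ≠ 0 ∧
        ∀ b, ∑ a, v a * phi st (A a b) = 0 := by
    intro st d z m' hm'
    have hX : (MvPolynomial.X 0 : S 1 k) ^ (m' - d 1).toNat ∈ G 1 k (m' - d 1) := by
      have := mem_G_cast.2 (Xp (k := k) (n := 1) 0 (m' - d 1).toNat).2
      rwa [Int.toNat_of_nonneg (show (0 : ℤ) ≤ m' - d 1 by omega)] at this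
    let μ : Tw k 1 (d 1) ⟶ Tw k 1 m' := mulHom hX (by omega)
    let φ : (PB (phiGr st) (phiGr_irrelevant st)).obj E ⟶ Tw k 1 m' :=
      z.inv ≫ biproduct.π (fun l : Fin 2 => Groth.L21.P1.O k (d l)) 1 ≫ μ
    refine exists_row_of_hom π A hA hzero le_rfl (phiGr st) (phiGr_irrelevant st) (φ := φ) fun h1 => ?_
    have h2 : μ = 0 := by
      have h3 := congrArg (fun y => biproduct.ι (fun l : Fin 2 => Groth.L21.P1.O k (d l)) 1 ≫ z.hom ≫ y) h1
      simpa [φ] using h3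
    exact pow_ne_zero _ (MvPolynomial.X_ne_zero _) ((mulHom_eq_zero_iff _ _).1 h2)
  obtain ⟨j, w, hj, hw, hw0, hwA⟩ := exists_global_hyp (e := e) (f := p - q) A hH hr hA' hQ0
    (fun st hst u w hu hw huA hwA I J => by
      obtain ⟨d, z, h10, hsum⟩ := hline st
      have h1m : m ≤ d 1 := by
        by_contra hlt
        obtain ⟨v, hv, hv0, hvA⟩ := hrowL st d z (m - 1) (by omega)
        exact hv0 (hQ st hst v hv hvA)
      obtain ⟨γ, hγ⟩ := exists_rows_mul π A hA hdesc (phiGr st) (phiGr_irrelevant st) z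
      obtain ⟨α, hα⟩ := hγ m (by omega) u (fun a => (hG _).2 (hu a)) huA
      obtain ⟨β, hβ⟩ := hγ m (by omega) w (fun a => (hG _).2 (hw a)) hwA
      rw [hα, hα, hβ, hβ]
      ring)
    fun st => by
      obtain ⟨d, z, h10, hsum⟩ := hline st
      obtain ⟨v, hv, hv0, hvA⟩ := hrowL st d z m (by omega)
      exact ⟨v, fun a => (hG _).1 (hv a), hv0, hvA⟩
  -- a destabilising map
  let v : Fin N → S (r + 1 + 1) k := fun a => (MvPolynomial.X 0) ^ (e - j) * w a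
  have hv : ∀ a, v a ∈ G (r + 1 + 1) k (m + dq a) := fun a => by
    refine (hG (r + 1 + 1)).2 ?_
    have := (MvPolynomial.isHomogeneous_X_pow (R := k) (0 : Fin (r + 1 + 1 + 1)) (e - j)).mul (hw a)
    rwa [show e - j + j = e by omega] at this
  obtain ⟨φ, hφ⟩ := hdesc _ (rowHom _ v hv) ((matHom_rowHom_eq_zero_iff A hA _ v hv).2 fun b => by
    simp only [v, mul_assoc, ← Finset.mul_sum, hwA, mul_zero])
  have hφ0 : φ ≠ 0 := fun h0 => hw0 (funext fun a => by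
    rw [h0, comp_zero] at hφ
    exact (mul_eq_zero.1 (congrFun ((rowHom_eq_zero_iff _ v hv).1 hφ.symm) a)).resolve_left
      (pow_ne_zero _ (MvPolynomial.X_ne_zero _)))
  obtain ⟨ζ⟩ := Groth.L03.ShStab.Rank2.exists_twist_inverse (k := k) (n := r + 1 + 1) m
  obtain ⟨ext, hext⟩ := hL
  obtain ⟨D, hD⟩ := Groth.L03.ShStab.Rank2.exists_copairing ext hext (M := O' (r + 1 + 1) k m)
    (M' := O' (r + 1 + 1) k (-m)) φ ζ.hom
  have hD0 := Groth.L03.ShStab.Rank2.copairing_ne_zero ext hE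
    (Groth.L16.ProjTwist.isInvertible_twistProjSpace (r + 1 + 1) k _)
    (Groth.L16.ProjTwist.isInvertible_twistProjSpace (r + 1 + 1) k _) hφ0 ζ hD
  obtain ⟨l⟩ := Groth.L22.Reg.nonempty_O_add (n := r + 1 + 1) (R := k)
    (show c + -m = c + k₀ + 1 by simp only [m]; omega)
  let i := tensorIso ξ (Iso.refl (O' (r + 1 + 1) k (-m))) ≪≫ l
  have hs : i.inv ≫ D ≠ 0 := fun h => hD0 (by rw [← cancel_epi i.inv, h, comp_zero])
  exact Groth.L03.ShStab.Rank2.not_subsingleton_of_hom hE (show -(-(c + k₀ + 1)) ≤ c + k₀ + 1 by omega) hs hss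

end Groth.L03.VBPn.GM
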