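import Groth.Agent.L03.VBPn.GM.Param
import Groth.Agent.L03.VBPn.GM.Homs
import Groth.Agent.L22.PDual.ProjEmbed
import Groth.Agent.L22.Hyper.Main
import Groth.Agent.L18.ClosedSub
import Groth.Agent.L18.FiniteProjective

/-!
# The lines and matrices on them
-/

set_option autoImplicit false
set_option linter.style.haveILetI false
set_option linter.unusedSectionVars false
set_option backward.isDefEq.respectTransparency false
set_option backward.isDefEq.respectTransparency.types false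

universe u

open CategoryTheory CategoryTheory.Limits AlgebraicGeometry TopologicalSpace Opposite
open Groth.L22.SyzTilde (G S PS Fr pr matHom mulHom toLoc mem_G_cast)
open scoped HomogeneousIdeal

noncomputable section

namespace Groth.L03.VBPn.GM

variable {k : Type u} [Field k]

/-- A functor preserving a coproduct, compared termwise. -/
theorem exists_sigma_iso {C D : Type*} [Category C] [Category D] (F : C ⥤ D) {J : Type*} (A : J → C) (B : J → D)
    [HasCoproductsOfShape J C] [HasCoproductsOfShape J D] [IsIso (sigmaComparison F A)]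
    (t : ∀ j, F.obj (A j) ≅ B j) :
    ∃ θ : F.obj (∐ A) ≅ ∐ B, ∀ j, F.map (Sigma.ι A j) ≫ θ.hom = (t j).hom ≫ Sigma.ι B j := by
  refine ⟨(asIso (sigmaComparison F A)).symm ≪≫ Sigma.mapIso t, fun j => ?_⟩
  rw [Iso.trans_hom, Iso.symm_hom, ← Category.assoc, asIso_inv, map_ι_comp_inv_sigmaComparison]
  exact Limits.Sigma.ι_map (fun j => (t j).hom) j

section Map

variable {m n : ℕ} (ψ : CohB1.polyGrading n k →+*ᵍ CohB1.polyGrading m k)
  (hψ : (CohB1.polyGrading m k)₊ ≤ ((CohB1.polyGrading n k)₊).map ψ)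

/-- Pullback along `Proj.map`. -/
abbrev PB : (PS n k).Modules ⥤ (PS m k).Modules := Scheme.Modules.pullback (Proj.map ψ hψ)

/-- The comparison of twists. -/
def comapT (d : ℤ) : Tw k n d ⟶ (Scheme.Modules.pushforward (Proj.map ψ hψ)).obj (Tw k m d) :=
  GrTwist.comap ψ hψ d

/-- `O(d)` pulls back to `O(d)`. -/
def twHom (d : ℤ) : (PB ψ hψ).obj (Tw k n d) ⟶ Tw k m d :=
  ((Scheme.Modules.pullbackPushforwardAdjunction (Proj.map ψ hψ)).homEquiv _ _).symm (comapT ψ hψ d)

theorem isIso_twHom (d : ℤ) : IsIso (twHom ψ hψ d) := by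
  refine Groth.L18.RelTilde.isIso_adjunct_of_frames (Proj.map ψ hψ) (GrTwist.comap ψ hψ d) fun x => ?_
  obtain ⟨i, hi⟩ := Groth.L16.ProjSpace.exists_mem_basicOpen_X n k (Proj.map ψ hψ x)
  refine ⟨U (k := k) i, gen d i, hi, isFrame_gen d i, ?_⟩
  let a := Xp (k := k) i d.toNat
  let b := Xp (k := k) i (-d).toNat
  have hN : ((d.toNat : ℕ) : ℤ) = (-d).toNat + d := by omega
  have key : (show GrTwist.sectN (𝒜 := CohB1.polyGrading m k) d (op (Proj.map ψ hψ ⁻¹ᵁ U (k := k) i)) from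
      (GrTwist.comap ψ hψ d).app (U (k := k) i) (gen d i)) =
      Groth.L18.GrM.genT (⟨ψ a.1, ψ.map_mem a.2⟩ : CohB1.polyGrading m k _)
        (⟨ψ b.1, ψ.map_mem b.2⟩ : CohB1.polyGrading m k _) hN (Proj.map ψ hψ ⁻¹ᵁ U (k := k) i)
        (fun y => notMem ⟨ProjectiveSpectrum.comap ψ hψ y.1, y.2⟩ _) :=
    Groth.L18.RelTilde.comapApp_genT ψ hψ a b hN (fun z => notMem z _) Set.Subset.rfl
  refine (congrArg (Groth.L18.Frame.IsFrame (GrTwist.twist (CohB1.polyGrading m k) d) (Proj.map ψ hψ ⁻¹ᵁ U (k := k) i)) key).mpr ?_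
  exact Groth.L18.GrM.isFrame_genT _ _ _ _ (fun y => notMem ⟨ProjectiveSpectrum.comap ψ hψ y.1, y.2⟩ _)
    (fun y => notMem ⟨ProjectiveSpectrum.comap ψ hψ y.1, y.2⟩ _)

theorem mapG {δ : ℤ} {p : S n k} (hp : p ∈ G n k δ) : ψ p ∈ G m k δ := by
  rcases Groth.L22.SyzTilde.exists_nat_of_mem_G hp with rfl | ⟨d, rfl, hd⟩
  · rw [map_zero]; exact zero_mem _
  · exact mem_G_cast.2 (ψ.map_mem hd)

theorem comapT_natural {a b δ : ℤ} {p : S n k} (hp : p ∈ G n k δ) (h : a + δ = b) :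
    mulHom (n := a) (n' := b) hp h ≫ comapT ψ hψ b =
      comapT ψ hψ a ≫ (Scheme.Modules.pushforward (Proj.map ψ hψ)).map (mulHom (n := a) (n' := b) (mapG ψ hp) h) := by
  refine Scheme.Modules.hom_ext _ _ fun W => ConcreteCategory.hom_ext _ _ fun f => ?_
  refine val'_inj (W := Proj.map ψ hψ ⁻¹ᵁ W) fun y => ?_
  show GrTwist.locMap ψ hψ y.1 (toLoc (ProjectiveSpectrum.comap ψ hψ y.1) p *
      val' f ⟨ProjectiveSpectrum.comap ψ hψ y.1, y.2⟩) =
    toLoc y.1 (ψ p) * GrTwist.locMap ψ hψ y.1 (val' f ⟨ProjectiveSpectrum.comap ψ hψ y.1, y.2⟩)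
  refine (map_mul _ _ _).trans (congrArg (· * _) ?_)
  refine (GrTwist.locMap_mk ψ hψ y.1 p _).trans ?_
  congr 1
  exact Subtype.ext (map_one ψ)

theorem twHom_natural {a b δ : ℤ} {p : S n k} (hp : p ∈ G n k δ) (h : a + δ = b) :
    (PB ψ hψ).map (mulHom (n := a) (n' := b) hp h) ≫ twHom ψ hψ b =
      twHom ψ hψ a ≫ mulHom (n := a) (n' := b) (mapG ψ hp) h := by
  unfold twHom
  rw [← Adjunction.homEquiv_naturality_left_symm, comapT_natural, Adjunction.homEquiv_naturality_right_symm]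

variable {N N' : ℕ}

/-- Sums of twists pull back to sums of twists. -/
theorem exists_Fr_iso (deg : Fin N → ℤ) :
    ∃ θ : (PB ψ hψ).obj (Fr deg) ≅ Fr deg, ∀ a,
      (PB ψ hψ).map (Sigma.ι (fun a : Fin N => Twist.twist (CohB1.polyGrading n k) (-deg a)) a) ≫ θ.hom =
        twHom ψ hψ (-deg a) ≫ Sigma.ι (fun a : Fin N => Twist.twist (CohB1.polyGrading m k) (-deg a)) a := by
  haveI := fun a => isIso_twHom ψ hψ (-deg a)
  exact exists_sigma_iso (PB ψ hψ) _ _ fun a => asIso (twHom ψ hψ (-deg a))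

theorem map_rowHom (deg : Fin N → ℤ) {θ : (PB ψ hψ).obj (Fr deg) ≅ Fr deg}
    (hθ : ∀ a, (PB ψ hψ).map (Sigma.ι (fun a : Fin N => Twist.twist (CohB1.polyGrading n k) (-deg a)) a) ≫ θ.hom =
        twHom ψ hψ (-deg a) ≫ Sigma.ι (fun a : Fin N => Twist.twist (CohB1.polyGrading m k) (-deg a)) a)
    (c : ℤ) (v : Fin N → S n k) (hv : ∀ a, v a ∈ G n k (c + deg a)) :
    (PB ψ hψ).map (rowHom c v hv) ≫ twHom ψ hψ c = θ.hom ≫ rowHom c (fun a => ψ (v a)) (fun a => mapG ψ (hv a)) := by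
  haveI := fun a => isIso_twHom ψ hψ (-deg a)
  refine (cancel_epi (sigmaComparison (PB ψ hψ) _)).1 (Sigma.hom_ext _ _ fun a => ?_)
  rw [ι_comp_sigmaComparison_assoc, ι_comp_sigmaComparison_assoc, ← Functor.map_comp_assoc, ι_rowHom,
    twHom_natural, reassoc_of% (hθ a), ι_rowHom]

theorem map_matHom (deg : Fin N → ℤ) (deg' : Fin N' → ℤ) {θ : (PB ψ hψ).obj (Fr deg) ≅ Fr deg}
    (hθ : ∀ a, (PB ψ hψ).map (Sigma.ι (fun a : Fin N => Twist.twist (CohB1.polyGrading n k) (-deg a)) a) ≫ θ.hom =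
        twHom ψ hψ (-deg a) ≫ Sigma.ι (fun a : Fin N => Twist.twist (CohB1.polyGrading m k) (-deg a)) a)
    {θ' : (PB ψ hψ).obj (Fr deg') ≅ Fr deg'}
    (hθ' : ∀ a, (PB ψ hψ).map (Sigma.ι (fun a : Fin N' => Twist.twist (CohB1.polyGrading n k) (-deg' a)) a) ≫ θ'.hom =
        twHom ψ hψ (-deg' a) ≫ Sigma.ι (fun a : Fin N' => Twist.twist (CohB1.polyGrading m k) (-deg' a)) a)
    (d : Fin N → Fin N' → S n k) (hd : ∀ a b, d a b ∈ G n k (deg' b - deg a)) :
    (PB ψ hψ).map (matHom d hd) ≫ θ.hom = θ'.hom ≫ matHom (fun a b => ψ (d a b)) (fun a b => mapG ψ (hd a b)) := by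
  refine (cancel_epi (sigmaComparison (PB ψ hψ) _)).1 (Sigma.hom_ext _ _ fun b => ?_)
  rw [ι_comp_sigmaComparison_assoc, ι_comp_sigmaComparison_assoc, ← Functor.map_comp_assoc, ι_matHom,
    reassoc_of% (hθ' b), ι_matHom, Functor.map_sum, Preadditive.sum_comp, Preadditive.comp_sum]
  refine Finset.sum_congr rfl fun a _ => ?_
  rw [Functor.map_comp, Category.assoc, hθ a, reassoc_of% (twHom_natural ψ hψ)]

end Map

section Lines

variable {r : ℕ} (st : Fin r ⊕ Fin r → k)

theorem phi_mem {d : ℕ} {g : P r k} (hg : g ∈ CohB1.polyGrading (r + 1) k d) :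
    phi st g ∈ CohB1.polyGrading 1 k d := by
  refine (MvPolynomial.mem_homogeneousSubmodule d _).2 ?_
  rw [show d = 1 * d by omega]
  refine MvPolynomial.IsHomogeneous.aeval ((MvPolynomial.mem_homogeneousSubmodule d _).1 hg) _ fun l => ?_
  induction l using Fin.cases with
  | zero => exact MvPolynomial.isHomogeneous_X k _
  | succ l =>
    induction l using Fin.cases with
    | zero => exact MvPolynomial.isHomogeneous_X k _
    | succ i =>
      exact ((MvPolynomial.isHomogeneous_X k _).C_mul _).add ((MvPolynomial.isHomogeneous_X k _).C_mul _)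

/-- The graded homomorphism of a line. -/
def phiGr : CohB1.polyGrading (r + 1) k →+*ᵍ CohB1.polyGrading 1 k :=
  { (phi st).toRingHom with map_mem := fun {_ _} h => phi_mem st h }

theorem phiGr_apply (g : P r k) : phiGr st g = phi st g := rfl

theorem phiGr_surjective : Function.Surjective (phiGr st) := fun g => by
  refine ⟨MvPolynomial.rename (Fin.castLE (by omega : 1 + 1 ≤ r + 1 + 1)) g, ?_⟩
  rw [phiGr_apply, phi, MvPolynomial.aeval_rename]
  have h : (Fin.cases (MvPolynomial.X 0 : L k) (Fin.cases (MvPolynomial.X 1) fun i =>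
      MvPolynomial.C (st (Sum.inr i)) * MvPolynomial.X 0 + MvPolynomial.C (st (Sum.inl i)) * MvPolynomial.X 1)) ∘
      Fin.castLE (by omega : 1 + 1 ≤ r + 1 + 1) = MvPolynomial.X := funext fun l => by
    fin_cases l <;> rfl
  rw [h, MvPolynomial.aeval_X_left_apply]

theorem phiGr_irrelevant :
    (CohB1.polyGrading 1 k)₊ ≤ ((CohB1.polyGrading (r + 1) k)₊).map (phiGr st) := by
  show (HomogeneousIdeal.irrelevant (CohB1.polyGrading 1 k)).toIdeal ≤
    ((HomogeneousIdeal.irrelevant (CohB1.polyGrading (r + 1) k)).map (phiGr st)).toIdeal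
  refine (Groth.L16.ProjSpace.irrelevant_le_span 1 k).trans (Ideal.span_le.2 ?_)
  rintro _ ⟨l, rfl⟩
  refine (show (MvPolynomial.X l : L k) = phiGr st (MvPolynomial.X (Fin.castLE (by omega : 1 + 1 ≤ r + 1 + 1) l)) by
    rw [phiGr_apply, phi, MvPolynomial.aeval_X]; fin_cases l <;> rfl) ▸ ?_
  exact Ideal.mem_map_of_mem _ (HomogeneousIdeal.mem_irrelevant_of_mem _ one_pos (Groth.L16.ProjSpace.X_mem _ k _))

/-- The line. -/
def lineMap : CohB1.ProjSpace 1 k ⟶ CohB1.ProjSpace (r + 1) k :=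
  Proj.map (phiGr st) (phiGr_irrelevant st)

theorem lineMap_spec : IsClosedImmersion (lineMap st) ∧
    lineMap st ≫ CohB1.ProjSpace.toSpec (r + 1) k = CohB1.ProjSpace.toSpec 1 k ∧
    Nonempty ((Scheme.Modules.pullback (lineMap st)).obj (Twist.twistProjSpace (r + 1) k 1) ≅
      Twist.twistProjSpace 1 k 1) := by
  refine ⟨Groth.L18.map_isClosedImmersion _ _ (phiGr_surjective st), ?_, ?_⟩
  · simp only [lineMap, CohB1.ProjSpace.toSpec]
    rw [← Category.assoc, Groth.L18.FinProj.map_toSpecZero, Category.assoc, ← Spec.map_comp, ← CommRingCat.ofHom_comp]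
    congr 3
    refine RingHom.ext fun c => Subtype.ext ?_
    exact (phi st).commutes c
  · haveI := isIso_twHom (phiGr st) (phiGr_irrelevant st) 1
    exact ⟨asIso (twHom (phiGr st) (phiGr_irrelevant st) 1)⟩

end Lines

end Groth.L03.VBPn.GM
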