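import Groth.Agent.L03.VBPn.GM.Line
import Groth.Agent.L03.ShStab.Rank2Pn
import Groth.Agent.L03.SurfAdj.DetIso
import Groth.Agent.L03.VBPn.Jump.Split
import Groth.Agent.L22.PDual.Perfect
import Groth.Agent.L16.ProjSpace.Basic

/-!
# Grauert–Mülich for rank two
-/

set_option autoImplicit false
set_option linter.style.haveILetI false
set_option linter.unusedSectionVars false
set_option backward.isDefEq.respectTransparency false
set_option backward.isDefEq.respectTransparency.types false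

universe u

open CategoryTheory CategoryTheory.Limits AlgebraicGeometry
open Groth.L22.SyzTilde (G S PS Fr pr matHom mulHom mem_G_cast)
open Groth.L22.Reg (O')

noncomputable section

namespace Groth.L03.VBPn.GM

variable {k : Type u} [Field k]

theorem mulHom_inj {n : ℕ} {a b δ : ℤ} {p q : S n k} (hp : p ∈ G n k δ) (hq : q ∈ G n k δ) (h : a + δ = b)
    (he : mulHom (n := a) (n' := b) hp h = mulHom (n := a) (n' := b) hq h) : p = q := by
  have hm := mulHom_add (sub_mem hp hq) hq h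
  simp only [sub_add_cancel] at hm
  have h0 : mulHom (n := a) (n' := b) (sub_mem hp hq) h = 0 := by
    rw [he] at hm
    exact left_eq_add.1 (hm.symm.trans (add_comm _ _))
  exact sub_eq_zero.1 ((mulHom_eq_zero_iff _ _).1 h0)

theorem rowHom_mulHom {n N : ℕ} {deg : Fin N → ℤ} {c d δ : ℤ} (v : Fin N → S n k)
    (hv : ∀ a, v a ∈ G n k (c + deg a)) {p : S n k} (hp : p ∈ G n k δ) (h : c + δ = d) :
    ∃ hpv : ∀ a, p * v a ∈ G n k (d + deg a),
      rowHom c v hv ≫ mulHom (n := c) (n' := d) hp h = rowHom d (fun a => p * v a) hpv := by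
  refine ⟨fun a => ?_, Sigma.hom_ext _ _ fun a => ?_⟩
  · have := mul_mem_G hp (hv a)
    rwa [show δ + (c + deg a) = d + deg a by omega] at this
  · rw [← Category.assoc, ι_rowHom, ι_rowHom]
    exact mulHom_comp _ _ _ _ _ _

theorem rowHom_inj {n N : ℕ} {deg : Fin N → ℤ} {c : ℤ} {v w : Fin N → S n k}
    (hv : ∀ a, v a ∈ G n k (c + deg a)) (hw : ∀ a, w a ∈ G n k (c + deg a))
    (h : rowHom c v hv = rowHom c w hw) : v = w := funext fun a =>
  mulHom_inj (hv a) (hw a) (show -deg a + (c + deg a) = c by omega) (by rw [← ι_rowHom, h, ι_rowHom])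

theorem hom_eq_zero_of_lt {n : ℕ} (hn : 1 ≤ n) {a b : ℤ} (h : b < a) (φ : Tw k n a ⟶ Tw k n b) : φ = 0 := by
  obtain ⟨p, hp, rfl⟩ := exists_eq_mulHom hn φ
  rw [mulHom_eq_zero_iff]
  exact Groth.L22.SyzTilde.eq_zero_of_mem_G_neg (by omega) hp

/-- Factoring through a right exact additive functor with right adjoint. -/
theorem exists_desc_map {C D : Type*} [Category C] [Category D] [Preadditive C] [Preadditive D] (F : C ⥤ D)
    (G : D ⥤ C) (adj : F ⊣ G) [F.Additive] {F₁ F₀ E : C} {A : F₁ ⟶ F₀} {p : F₀ ⟶ E}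
    (hdesc : ∀ (T : C) (f : F₀ ⟶ T), A ≫ f = 0 → ∃ f', p ≫ f' = f) {T : D} (φ : F.obj F₀ ⟶ T)
    (h : F.map A ≫ φ = 0) : ∃ φ', F.map p ≫ φ' = φ := by
  haveI : G.Additive := adj.right_adjoint_additive
  have h0 : A ≫ adj.homEquiv _ _ φ = 0 := by
    rw [← adj.homEquiv_naturality_left, h, adj.homEquiv_unit, G.map_zero, comp_zero]
  obtain ⟨f', hf'⟩ := hdesc _ _ h0
  exact ⟨(adj.homEquiv _ _).symm f', by rw [← adj.homEquiv_naturality_left_symm, hf', Equiv.symm_apply_apply]⟩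

variable [IsAlgClosed k]

theorem det_splitting {n : ℕ} (i : CohB1.ProjSpace 1 k ⟶ CohB1.ProjSpace n k)
    (h1 : Nonempty ((Scheme.Modules.pullback i).obj (O' n k 1) ≅ O' 1 k 1))
    {E : (CohB1.ProjSpace n k).Modules} (hE : FlatMod.IsFinLocFreeOfRank 2 E) {L : (CohB1.ProjSpace n k).Modules} {c : ℤ}
    (hL : ExtPow.IsExtPow 2 E L) (ξ : L ≅ O' n k c) {d : Fin 2 → ℤ}
    (e : Groth.L21.P1.sumO k d ≅ (Scheme.Modules.pullback i).obj E) : d 0 + d 1 = c := by
  classical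
  haveI := Groth.L22.Reg.isProper_over_proj (k := k) (n := 1)
  let O := fun l : Fin 2 => Groth.L21.P1.O k (d l)
  let α : O 0 ⟶ (Scheme.Modules.pullback i).obj E := biproduct.ι O 0 ≫ e.hom
  let β : (Scheme.Modules.pullback i).obj E ⟶ O 1 := e.inv ≫ biproduct.π O 1
  have w : α ≫ β = 0 := by simp [α, β]
  have hse : (ShortComplex.mk α β w).ShortExact :=
    ShortComplex.Splitting.shortExact
      { r := e.inv ≫ biproduct.π O 0
        s := biproduct.ι O 1 ≫ e.hom
        f_r := by simp [α]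
        s_g := by simp [β]
        id := by
          simp only [α, β, Category.assoc]
          rw [← Preadditive.comp_add, ← Category.assoc (biproduct.π O 0), ← Category.assoc (biproduct.π O 1),
            ← Preadditive.add_comp, ← Fin.sum_univ_two (f := fun l => biproduct.π O l ≫ biproduct.ι O l),
            biproduct.total, Category.id_comp, Iso.inv_hom_id] }
  obtain ⟨t⟩ := Groth.L03.SurfAdj.nonempty_det_iso i hE hL
    (Groth.L16.ProjTwist.isInvertible_twistProjSpace 1 k (d 0))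
    (Groth.L16.ProjTwist.isInvertible_twistProjSpace 1 k (d 1)) α β w hse
  obtain ⟨u⟩ := Groth.L03.VBPn.nonempty_pullback_twist i h1 c
  obtain ⟨v⟩ := Groth.L22.Reg.nonempty_O_add (n := 1) (R := k) (rfl : d 0 + d 1 = _)
  have h := Groth.L21.RR.euler_congr k (u.symm ≪≫ (Scheme.Modules.pullback i).mapIso ξ.symm ≪≫ t ≪≫ v)
  rw [show Curv2.euler k _ (O' 1 k c) = c + 1 from Groth.L03.VBPn.Jump.euler_OL c,
    show Curv2.euler k _ (O' 1 k (d 0 + d 1)) = d 0 + d 1 + 1 from Groth.L03.VBPn.Jump.euler_OL _] at h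
  omega

theorem nonempty_biprod (d : Fin 2 → ℤ) :
    Nonempty (Groth.L21.P1.sumO k d ≅ Twist.twistProjSpace 1 k (d 1) ⊞ Twist.twistProjSpace 1 k (d 0)) :=
  ⟨{ hom := biprod.lift (biproduct.π _ 1) (biproduct.π _ 0)
     inv := biprod.desc (biproduct.ι (fun l : Fin 2 => Groth.L21.P1.O k (d l)) 1)
       (biproduct.ι (fun l : Fin 2 => Groth.L21.P1.O k (d l)) 0)
     hom_inv_id := by
       rw [biprod.lift_desc, ← biproduct.total (f := fun l : Fin 2 => Groth.L21.P1.O k (d l)), Fin.sum_univ_two,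
         add_comm]
     inv_hom_id := by
       apply biprod.hom_ext' <;> apply biprod.hom_ext <;> simp <;> rfl }⟩

variable [CharZero k]

/-- Some line has the generic splitting type. -/
theorem exists_line (r : ℕ) (E : (CohB1.ProjSpace (r + 1) k).Modules) (hE : FlatMod.IsFinLocFreeOfRank 2 E)
    {L : (CohB1.ProjSpace (r + 1) k).Modules} {c k₀ : ℤ} (hL : ExtPow.IsExtPow 2 E L) (ξ : L ≅ O' (r + 1) k c)
    (hk₀ : c + 2 * k₀ = 0 ∨ c + 2 * k₀ = -1)
    (hss : Subsingleton (Coh.HH (CohB1.ProjSpace (r + 1) k)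
      (CohB1.tensorMod E (Twist.twistProjSpace (r + 1) k (-(c + k₀ + 1)))) 0)) :
    ∃ st : Fin r ⊕ Fin r → k, Nonempty ((Scheme.Modules.pullback (lineMap st)).obj E ≅
      Twist.twistProjSpace 1 k (-k₀) ⊞ Twist.twistProjSpace 1 k (c + k₀)) := by
  classical
  by_contra hno
  push Not at hno
  -- the splitting on every line
  have hline : ∀ st : Fin r ⊕ Fin r → k, ∃ (d : Fin 2 → ℤ)
      (_ : Groth.L21.P1.sumO k d ≅ (Scheme.Modules.pullback (lineMap st)).obj E),
      d 1 ≤ c + k₀ - 1 ∧ c + k₀ + 1 ≤ d 0 := by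
    intro st
    obtain ⟨-, -, h1⟩ := lineMap_spec st
    obtain ⟨d, hd, ⟨e⟩⟩ := Groth.L21.P1.exists_splitting k
      (Groth.L12.StabLimit.isFinLocFreeOfRank_pullback (lineMap st) hE)
    have hsum := det_splitting (lineMap st) h1 hE hL ξ e
    have h01 : d 1 ≤ d 0 := hd (show (0 : Fin 2) ≤ 1 by decide)
    have hbad : -k₀ + 1 ≤ d 0 := by
      by_contra hle
      obtain ⟨b⟩ := nonempty_biprod (k := k) d
      rcases hk₀ with h | h
      · refine (hno st).false ?_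
        rw [show -k₀ = d 1 by omega, show c + k₀ = d 0 by omega]
        exact e.symm ≪≫ b
      · refine (hno st).false ?_
        rw [show -k₀ = d 0 by omega, show c + k₀ = d 1 by omega]
        exact e.symm ≪≫ b ≪≫ biprod.braiding _ _
    exact ⟨d, e, by omega, by omega⟩
  -- a presentation
  haveI : IsLocallyNoetherian (CohB1.ProjSpace (r + 1) k) := by
    haveI := Groth.L22.Reg.isProper_over_proj (k := k) (n := r + 1)
    exact LocallyOfFiniteType.isLocallyNoetherian (CohB1.ProjSpace.toSpec (r + 1) k)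
  have hEc := Groth.L16.NegPow.isCoh_of_isFinLocFree (Groth.L03.VBPn.Tango.isFinLocFree_of_rank hE)
  obtain ⟨q, N, p0, -, hp0⟩ := Groth.L22.PDual.exists_epi_twists hEc 0
  haveI := hp0
  obtain ⟨p, M, p1, hqp, hp1⟩ := Groth.L22.PDual.exists_epi_twists
    (Groth.L16.CohKernel.isCoh_kernel_cokernel (Groth.L22.PDual.isCoh_sum N _) hEc p0).1 q
  haveI := hp1
  let dq : Fin N → ℤ := fun _ => (q : ℤ)
  let dp : Fin M → ℤ := fun _ => (p : ℤ)
  let π : Fr (r := r + 1) (k := k) dq ⟶ E := p0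
  obtain ⟨A, hA, hAe⟩ := exists_matHom (n := r + 1) (by omega)
    (show Fr (r := r + 1) (k := k) dp ⟶ Fr dq from p1 ≫ kernel.ι p0)
  have hzero : matHom A hA ≫ π = 0 := by
    rw [← hAe]
    show (p1 ≫ kernel.ι p0) ≫ p0 = 0
    rw [Category.assoc, kernel.condition, comp_zero]
  have hdesc : ∀ (T : (CohB1.ProjSpace (r + 1) k).Modules) (f : Fr (r := r + 1) (k := k) dq ⟶ T),
      matHom A hA ≫ f = 0 → ∃ f', π ≫ f' = f := by
    intro T f hf
    rw [← hAe] at hf
    have hf' : kernel.ι p0 ≫ (show (∐ fun _ : Fin N => O' (r + 1) k (-(q : ℤ))) ⟶ T from f) = 0 :=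
      (cancel_epi p1).1 (((Category.assoc _ _ _).symm.trans hf).trans comp_zero.symm)
    exact ⟨Abelian.epiDesc p0 _ hf', Abelian.comp_epiDesc p0 _ hf'⟩
  have hA' : ∀ a b, (A a b).IsHomogeneous (p - q) := fun a b => by
    have := hA a b
    rw [show dp b - dq a = (((p - q : ℕ)) : ℤ) by simp only [dp, dq]; omega, mem_G_cast] at this
    exact this
  -- on a line
  have hψA : ∀ st a b, phiGr st (A a b) ∈ G 1 k (dp b - dq a) := fun st a b => mapG (phiGr st) (hA a b)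
  have hrow : ∀ (st : Fin r ⊕ Fin r → k), ∃ v : Fin N → S 1 k,
      (∀ a, v a ∈ G 1 k (c + k₀ - 1 + (q : ℤ))) ∧ v ≠ 0 ∧ ∀ b, ∑ a, v a * phi st (A a b) = 0 := by
    intro st
    obtain ⟨d, e, hd1, hd0⟩ := hline st
    let ψ := phiGr st
    let hψ := phiGr_irrelevant st
    obtain ⟨θ, hθ⟩ := exists_Fr_iso ψ hψ dq
    obtain ⟨θ', hθ'⟩ := exists_Fr_iso ψ hψ dp
    have hX : (MvPolynomial.X 0 : S 1 k) ^ (c + k₀ - 1 - d 1).toNat ∈ G 1 k (c + k₀ - 1 - d 1) := by
      have := mem_G_cast.2 (Xp (k := k) (n := 1) 0 (c + k₀ - 1 - d 1).toNat).2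
      rwa [Int.toNat_of_nonneg (show (0 : ℤ) ≤ c + k₀ - 1 - d 1 by omega)] at this
    let μ : Tw k 1 (d 1) ⟶ Tw k 1 (c + k₀ - 1) := mulHom hX (by omega)
    let φ : (PB ψ hψ).obj E ⟶ Tw k 1 (c + k₀ - 1) :=
      e.inv ≫ biproduct.π (fun l : Fin 2 => Groth.L21.P1.O k (d l)) 1 ≫ μ
    obtain ⟨v, hv, hve⟩ := exists_rowHom (n := 1) le_rfl (θ.inv ≫ (PB ψ hψ).map π ≫ φ)
    refine ⟨v, hv, fun hv0 => ?_, ?_⟩
    · rw [(rowHom_eq_zero_iff _ v hv).2 hv0] at hve
      have h1 : φ = 0 := by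
        haveI : Epi ((PB ψ hψ).map π) := inferInstanceAs (Epi ((PB ψ hψ).map p0))
        refine (cancel_epi ((PB ψ hψ).map π)).1 ?_
        refine (cancel_epi θ.inv).1 ?_
        rw [comp_zero, comp_zero]
        exact hve
      have h2 : μ = 0 := by
        have h3 := congrArg (fun z => biproduct.ι (fun l : Fin 2 => Groth.L21.P1.O k (d l)) 1 ≫ e.hom ≫ z) h1
        simpa [φ] using h3
      exact pow_ne_zero _ (MvPolynomial.X_ne_zero _) ((mulHom_eq_zero_iff _ _).1 h2)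
    · refine (matHom_rowHom_eq_zero_iff (fun a b => ψ (A a b)) (hψA st) _ v hv).1 ?_
      rw [← hve, ← cancel_epi θ'.hom, comp_zero, ← Category.assoc, ← map_matHom ψ hψ dq dp hθ hθ' A hA,
        Category.assoc, Iso.hom_inv_id_assoc, ← Functor.map_comp_assoc, hzero, Functor.map_zero, zero_comp]
  obtain ⟨e', he'⟩ : ∃ e' : ℕ, c + k₀ - 1 + (q : ℤ) = (e' : ℤ) := by
    obtain ⟨v, hv, hv0, -⟩ := hrow 0
    refine ⟨(c + k₀ - 1 + (q : ℤ)).toNat, (Int.toNat_of_nonneg ?_).symm⟩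
    by_contra hlt
    exact hv0 (funext fun a => Groth.L22.SyzTilde.eq_zero_of_mem_G_neg (by omega) (hv a))
  obtain ⟨j, w, hj, hw, hw0, hwA⟩ := exists_global (e := e') (f := p - q) A hA' (fun st => by
    obtain ⟨v, hv, hv0, hvA⟩ := hrow st
    refine ⟨v, fun a => ?_, hv0, hvA⟩
    have := hv a
    rw [he', mem_G_cast] at this
    exact this) fun st v w hv hw hvA hwA I J => by
    obtain ⟨d, e, hd1, hd0⟩ := hline st
    let ψ := phiGr st
    let hψ := phiGr_irrelevant st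
    obtain ⟨θ, hθ⟩ := exists_Fr_iso ψ hψ dq
    obtain ⟨θ', hθ'⟩ := exists_Fr_iso ψ hψ dp
    let O := fun l : Fin 2 => Groth.L21.P1.O k (d l)
    obtain ⟨γ, hγ, hγe⟩ := exists_rowHom (n := 1) le_rfl
      (c := d 1) (θ.inv ≫ (PB ψ hψ).map π ≫ e.inv ≫ biproduct.π O 1)
    have key : ∀ (m' : ℤ), m' < d 0 → ∀ (u : Fin N → S 1 k) (hu : ∀ a, u a ∈ G 1 k (m' + dq a)),
        (∀ b, ∑ a, u a * phi st (A a b) = 0) → ∃ α : S 1 k, ∀ a, u a = α * γ a := by
      intro m' hm' u hu huA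
      have h0 : matHom (fun a b => ψ (A a b)) (hψA st) ≫ rowHom m' u hu = 0 :=
        (matHom_rowHom_eq_zero_iff _ (hψA st) _ u hu).2 huA
      obtain ⟨χ, hχ⟩ := exists_desc_map (PB ψ hψ) _ (Scheme.Modules.pullbackPushforwardAdjunction _) hdesc
        (θ.hom ≫ rowHom m' u hu)
        (by rw [← Category.assoc, map_matHom ψ hψ dq dp hθ hθ' A hA, Category.assoc, h0, comp_zero])
      obtain ⟨α, hα, hαe⟩ := exists_eq_mulHom (n := 1) le_rfl
        (show Tw k 1 (d 1) ⟶ Tw k 1 m' from biproduct.ι O 1 ≫ e.hom ≫ χ)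
      have hz : biproduct.ι O 0 ≫ e.hom ≫ χ = 0 :=
        hom_eq_zero_of_lt (n := 1) le_rfl hm' (show Tw k 1 (d 0) ⟶ Tw k 1 m' from biproduct.ι O 0 ≫ e.hom ≫ χ)
      have hχ' : χ = e.inv ≫ biproduct.π O 1 ≫ mulHom (n := d 1) (n' := m') hα (by omega) := by
        rw [← cancel_epi e.hom, Iso.hom_inv_id_assoc, ← hαe]
        calc e.hom ≫ χ = (∑ l, biproduct.π O l ≫ biproduct.ι O l) ≫ e.hom ≫ χ := by
              rw [biproduct.total, Category.id_comp]
          _ = _ := by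
              rw [Fin.sum_univ_two, Preadditive.add_comp, Category.assoc, Category.assoc, hz, comp_zero, zero_add]
      obtain ⟨hag, hrm⟩ := rowHom_mulHom γ hγ hα (show d 1 + (m' - d 1) = m' by omega)
      refine ⟨α, fun a => congrFun (rowHom_inj hu hag ?_) a⟩
      rw [← hrm, ← hγe, ← cancel_epi θ.hom, ← hχ, hχ']
      simp only [Category.assoc, Iso.hom_inv_id_assoc]
    have hv' : ∀ a, v a ∈ G 1 k (c + k₀ - 1 + dq a) := fun a => by
      show v a ∈ G 1 k (c + k₀ - 1 + (q : ℤ))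
      rw [he', mem_G_cast]; exact hv a
    have hw' : ∀ a, w a ∈ G 1 k (c + k₀ + dq a) := fun a => by
      show w a ∈ G 1 k (c + k₀ + (q : ℤ))
      rw [show c + k₀ + (q : ℤ) = ((e' + 1 : ℕ) : ℤ) by push_cast; omega, mem_G_cast]; exact hw a
    obtain ⟨α, hα⟩ := key _ (by omega) v hv' hvA
    obtain ⟨β, hβ⟩ := key _ (by omega) w hw' hwA
    rw [hα, hα, hβ, hβ]
    ring
  -- a destabilising map
  let v : Fin N → S (r + 1) k := fun a => (MvPolynomial.X 0) ^ (e' - j) * w a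
  have hv : ∀ a, v a ∈ G (r + 1) k (c + k₀ - 1 + dq a) := fun a => by
    show v a ∈ G (r + 1) k (c + k₀ - 1 + (q : ℤ))
    rw [he', mem_G_cast]
    have := SetLike.mul_mem_graded (Xp (k := k) (n := r + 1) 0 (e' - j)).2
      (show w a ∈ CohB1.polyGrading (r + 1) k j from hw a)
    rwa [show e' - j + j = e' by omega] at this
  obtain ⟨φ, hφ⟩ := hdesc _ (rowHom _ v hv) ((matHom_rowHom_eq_zero_iff A hA _ v hv).2 fun b => by
    simp only [v, mul_assoc, ← Finset.mul_sum, hwA, mul_zero])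
  have hφ0 : φ ≠ 0 := fun h0 => hw0 (funext fun a => by
    rw [h0, comp_zero] at hφ
    exact (mul_eq_zero.1 (congrFun ((rowHom_eq_zero_iff _ v hv).1 hφ.symm) a)).resolve_left
      (pow_ne_zero _ (MvPolynomial.X_ne_zero _)))
  haveI : IsIntegral (CohB1.ProjSpace (r + 1) k) := Groth.L16.ProjSpace.isIntegral (r + 1) k
  obtain ⟨ζ⟩ := Groth.L03.ShStab.Rank2.exists_twist_inverse (k := k) (n := r + 1) (c + k₀ - 1)
  obtain ⟨ext, hext⟩ := hL
  obtain ⟨D, hD⟩ := Groth.L03.ShStab.Rank2.exists_copairing ext hext (M := O' (r + 1) k (c + k₀ - 1))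
    (M' := O' (r + 1) k (-(c + k₀ - 1))) φ ζ.hom
  have hD0 := Groth.L03.ShStab.Rank2.copairing_ne_zero ext hE
    (Groth.L16.ProjTwist.isInvertible_twistProjSpace (r + 1) k _)
    (Groth.L16.ProjTwist.isInvertible_twistProjSpace (r + 1) k _) hφ0 ζ hD
  obtain ⟨l⟩ := Groth.L22.Reg.nonempty_O_add (n := r + 1) (R := k)
    (show c + -(c + k₀ - 1) = -k₀ + 1 by omega)
  let i := Groth.L00.Tensor.tensorIso ξ (Iso.refl (O' (r + 1) k (-(c + k₀ - 1)))) ≪≫ l
  have hs : i.inv ≫ D ≠ 0 := fun h => hD0 (by rw [← cancel_epi i.inv, h, comp_zero])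
  exact Groth.L03.ShStab.Rank2.not_subsingleton_of_hom hE (show -(-(c + k₀ + 1)) ≤ -k₀ + 1 by omega) hs hss

end Groth.L03.VBPn.GM
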