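import Groth.Agent.L03.VBPn.GM.Descent
import Groth.Agent.L00.RankSemi
import Mathlib.Algebra.MvPolynomial.Equiv
import Mathlib.RingTheory.Localization.Integer

/-!
# From rows on each line to a row on the universal line
-/

set_option autoImplicit false
set_option linter.unusedSectionVars false

universe u

open MvPolynomial

noncomputable section

namespace Groth.L03.VBPn.GM

variable {r : ℕ} {k : Type u} [Field k]

/-- The parameters. -/
abbrev St (r : ℕ) (k : Type u) [Field k] : Type u := MvPolynomial (Fin r ⊕ Fin r) k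

/-- A linear system solvable at every parameter has a solution with polynomial entries. -/
theorem exists_kernel [Infinite k] {σ ι κ : Type} [Fintype ι] [Fintype κ] (U : ι → κ → MvPolynomial σ k)
    (h : ∀ st : σ → k, ∃ c : ι → k, c ≠ 0 ∧ ∀ q, ∑ i, c i * eval st (U i q) = 0) :
    ∃ c : ι → MvPolynomial σ k, c ≠ 0 ∧ ∀ q, ∑ i, c i * U i q = 0 := by
  classical
  let K := FractionRing (MvPolynomial σ k)
  let a : MvPolynomial σ k →+* K := algebraMap _ _
  let Mx : Matrix κ ι K := fun q i => a (U i q)
  by_cases hker : ∃ c : ι → K, c ≠ 0 ∧ Mx.mulVec c = 0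
  · obtain ⟨c, hc, hMc⟩ := hker
    obtain ⟨b, hb⟩ := IsLocalization.exist_integer_multiples_of_finite (nonZeroDivisors (MvPolynomial σ k)) c
    choose c' hc' using hb
    have hc'' : ∀ i, a (c' i) = a b * c i := fun i => (hc' i).trans (Algebra.smul_def _ _)
    refine ⟨c', fun h0 => hc (funext fun i => ?_), fun q => IsFractionRing.injective (MvPolynomial σ k) K ?_⟩
    · have := hc'' i
      rw [h0, Pi.zero_apply, map_zero] at this
      exact (mul_eq_zero.1 this.symm).resolve_left
        ((map_ne_zero_iff _ (IsFractionRing.injective (MvPolynomial σ k) K)).2 (nonZeroDivisors.ne_zero b.2))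
    · have := congrArg (a b * ·) (congrFun hMc q)
      simp only [Matrix.mulVec, dotProduct, Pi.zero_apply, mul_zero, Finset.mul_sum, Mx] at this
      rw [map_sum, map_zero, ← this]
      exact Finset.sum_congr rfl fun i _ => by
        rw [map_mul, show algebraMap (MvPolynomial σ k) K (c' i) = a b * c i from hc'' i]; ring
  exfalso
  push Not at hker
  have hli : LinearIndependent K Mx.col := by
    rw [← Matrix.mulVec_injective_iff]
    intro x y hxy
    by_contra hne
    exact hker (x - y) (sub_ne_zero.2 hne) (by rw [Matrix.mulVec_sub, sub_eq_zero]; exact hxy)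
  have hrk : Mx.rank = Fintype.card ι := by
    rw [Matrix.rank_eq_finrank_span_cols, finrank_span_eq_card hli]
  obtain ⟨s, t, hdet⟩ := Groth.L00.RankSemi.exists_submatrix_det_ne_zero Mx
  have ht : Function.Bijective t := by
    refine (Fintype.bijective_iff_injective_and_card t).2 ⟨fun i j hij => ?_, by rw [Fintype.card_fin, hrk]⟩
    by_contra hne
    exact hdet (Matrix.det_zero_of_column_eq hne fun l => by simp [Matrix.submatrix, hij])
  let S : Matrix (Fin Mx.rank) (Fin Mx.rank) (MvPolynomial σ k) := fun p q => U (t q) (s p)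
  have hS : S.det ≠ 0 := fun h0 => hdet (by
    rw [show Mx.submatrix s t = a.mapMatrix S from rfl, ← RingHom.map_det, h0, map_zero])
  obtain ⟨st, hst⟩ : ∃ st, eval st S.det ≠ 0 := by
    by_contra hh
    push Not at hh
    exact hS (MvPolynomial.funext fun st => by rw [hh st, map_zero])
  obtain ⟨c, hc, hc0⟩ := h st
  rw [RingHom.map_det] at hst
  have := Matrix.eq_zero_of_mulVec_eq_zero hst (v := c ∘ t) (funext fun p => by
    show ∑ q, eval st (U (t q) (s p)) * c (t q) = 0
    rw [← hc0 (s p), ← (Equiv.ofBijective t ht).sum_comp fun i => c i * eval st (U i (s p))]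
    exact Finset.sum_congr rfl fun q _ => mul_comm _ _)
  refine hc (funext fun i => ?_)
  obtain ⟨q, rfl⟩ := ht.2 i
  exact congrFun this q

/-- The line with given parameters. -/
def phi (st : Fin r ⊕ Fin r → k) : P r k →ₐ[k] L k :=
  aeval (Fin.cases (X 0) (Fin.cases (X 1) fun i => C (st (Sum.inr i)) * X 0 + C (st (Sum.inl i)) * X 1))

/-- Specialising the universal line. -/
def ev (st : Fin r ⊕ Fin r → k) : R r k →ₐ[k] L k :=
  aeval (Sum.elim (fun j => C (st j)) ![X 0, X 1])

theorem ev_Psi (st : Fin r ⊕ Fin r → k) (g : P r k) : ev st (Psi r k g) = phi st g := by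
  refine congrArg (fun φ : P r k →ₐ[k] L k => φ g)
    (show (ev st).comp (Psi r k) = phi st from MvPolynomial.algHom_ext fun j => ?_)
  induction j using Fin.cases with
  | zero => simp [ev, Psi, phi]
  | succ j =>
    induction j using Fin.cases with
    | zero => simp [ev, Psi, phi]
    | succ i => simp [ev, Psi, phi]; ring

theorem eq_zero_of_ev [Infinite k] {g : R r k} (h : ∀ st, ev st g = 0) : g = 0 := by
  refine MvPolynomial.funext fun z => ?_
  rw [map_zero]
  have : ∀ q : R r k, eval (fun l => z (Sum.inr l)) (ev (fun j => z (Sum.inl j)) q) = eval z q := fun q => by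
    refine RingHom.congr_fun (f := (eval fun l => z (Sum.inr l)).comp (ev (fun j => z (Sum.inl j))).toRingHom)
      (g := eval z) (MvPolynomial.ringHom_ext (fun a => by simp [ev]) fun l => ?_) q
    rcases l with j | l
    · simp [ev]
    · fin_cases l <;> simp [ev]
  rw [← this g, h, map_zero]

/-- The monomials in the coordinates of the line. -/
def mon {A : Type*} [CommRing A] (x y : A) (e : ℕ) (l : Fin (e + 1)) : A := x ^ (l : ℕ) * y ^ (e - (l : ℕ))

theorem exists_mon_coeff {e : ℕ} {g : L k} (hg : g.IsHomogeneous e) :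
    ∃ c : Fin (e + 1) → k, g = ∑ l, C (c l) * mon (X 0) (X 1) e l := by
  refine ⟨fun l => coeff (Finsupp.single 0 (l : ℕ) + Finsupp.single 1 (e - (l : ℕ))) g, MvPolynomial.ext _ _ fun d => ?_⟩
  have hm : ∀ l : Fin (e + 1), (mon (X 0 : L k) (X 1) e l) =
      monomial (Finsupp.single 0 (l : ℕ) + Finsupp.single 1 (e - (l : ℕ))) 1 := fun l => by
    simp [mon, X_pow_eq_monomial, monomial_mul]
  rw [coeff_sum]
  simp only [hm, coeff_C_mul, coeff_monomial, mul_ite, mul_one, mul_zero]
  by_cases hd : d 0 + d 1 = e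
  · rw [Finset.sum_eq_single ⟨d 0, by omega⟩]
    · have : Finsupp.single 0 (d 0) + Finsupp.single 1 (e - d 0) = d := by
        ext j
        fin_cases j <;> simp; omega
      rw [if_pos this, this]
    · intro l _ hl
      rw [if_neg]
      intro h
      exact hl (Fin.ext (by have := congr($h 0); simp at this; exact this))
    · simp
  · rw [hg.coeff_eq_zero (by
      simp only [Finsupp.degree_eq_sum]
      exact hd), Finset.sum_eq_zero]
    intro l _
    rw [if_neg]
    intro h
    have h0 := congr($h 0)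
    have h1 := congr($h 1)
    simp at h0 h1
    have := l.2
    omega

/-- Rows on every line, rigid to first order, give a row from the space. -/
theorem exists_global [Infinite k] [CharZero k] {N M e f : ℕ} (A : Fin N → Fin M → P r k)
    (hA : ∀ a b, (A a b).IsHomogeneous f)
    (hex : ∀ st : Fin r ⊕ Fin r → k, ∃ v : Fin N → L k, (∀ a, (v a).IsHomogeneous e) ∧ v ≠ 0 ∧
      ∀ b, ∑ a, v a * phi st (A a b) = 0)
    (hrigid : ∀ (st : Fin r ⊕ Fin r → k) (v w : Fin N → L k), (∀ a, (v a).IsHomogeneous e) →
      (∀ a, (w a).IsHomogeneous (e + 1)) → (∀ b, ∑ a, v a * phi st (A a b) = 0) →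
      (∀ b, ∑ a, w a * phi st (A a b) = 0) → ∀ I J, v I * w J = v J * w I) :
    ∃ (j : ℕ) (w : Fin N → P r k), j ≤ e ∧ (∀ a, (w a).IsHomogeneous j) ∧ w ≠ 0 ∧
      ∀ b, ∑ a, w a * A a b = 0 := by
  classical
  let eqv : R r k ≃ₐ[k] MvPolynomial (Fin 2) (St r k) :=
    (renameEquiv k (Equiv.sumComm (Fin r ⊕ Fin r) (Fin 2))).trans (sumAlgEquiv k (Fin 2) (Fin r ⊕ Fin r))
  have hev : ∀ st g, ev st g = MvPolynomial.map (eval st) (eqv g) := fun st g => by
    refine RingHom.congr_fun (f := (ev st).toRingHom)
      (g := (MvPolynomial.map (eval st)).comp eqv.toAlgHom.toRingHom)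
      (MvPolynomial.ringHom_ext (fun a => by simp [ev, eqv]) fun l => ?_) g
    rcases l with j | l
    · simp [ev, eqv]
    · fin_cases l <;> simp [ev, eqv]
  let ι0 : St r k →ₐ[k] R r k := rename Sum.inl
  have hev0 : ∀ st (c : St r k), ev st (ι0 c) = C (eval st c) := fun st c => by
    refine RingHom.congr_fun (f := (ev st).toRingHom.comp ι0.toRingHom) (g := C.comp (eval st))
      (MvPolynomial.ringHom_ext (fun a => by simp [ev, ι0]) fun l => by simp [ev, ι0]) c
  let V : Fin N × Fin (e + 1) → Fin M → R r k := fun i b => mon (lam r k) (mu r k) e i.2 * Psi r k (A i.1 b)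
  have hmon : ∀ st l, ev st (mon (lam r k) (mu r k) e l) = mon (X 0) (X 1) e l := fun st l => by
    simp [mon, ev]
  let T : Finset (Fin 2 →₀ ℕ) := Finset.univ.biUnion fun i => Finset.univ.biUnion fun b => (eqv (V i b)).support
  obtain ⟨c, hc0, hc⟩ := exists_kernel (σ := Fin r ⊕ Fin r) (κ := Fin M × T)
    (fun i q => coeff q.2.1 (eqv (V i q.1))) fun st => by
      obtain ⟨v, hv, hv0, hvA⟩ := hex st
      choose c hc using fun a => exists_mon_coeff (hv a)
      refine ⟨fun i => c i.1 i.2, fun h0 => hv0 (funext fun a => ?_), fun q => ?_⟩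
      · rw [hc a, Pi.zero_apply]
        exact Finset.sum_eq_zero fun l _ => by rw [show c a l = 0 from congrFun h0 (a, l), C_0, zero_mul]
      · have := congrArg (coeff q.2.1) (hvA q.1)
        rw [coeff_zero] at this
        rw [← this, coeff_sum, Fintype.sum_prod_type]
        refine Finset.sum_congr rfl fun a _ => ?_
        rw [hc a, Finset.sum_mul, coeff_sum]
        refine Finset.sum_congr rfl fun l _ => ?_
        rw [mul_assoc, coeff_C_mul, ← hmon st, ← ev_Psi, ← map_mul, hev, coeff_map]
  let v : Fin N → R r k := fun a => ∑ l, ι0 (c (a, l)) * mon (lam r k) (mu r k) e l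
  have hsol : ∀ b, ∑ a, v a * Psi r k (A a b) = 0 := fun b => by
    refine eqv.injective ?_
    rw [map_zero]
    refine MvPolynomial.ext _ _ fun d => ?_
    have he : ∀ c' : St r k, eqv (ι0 c') = C c' := fun c' => by
      refine RingHom.congr_fun (f := eqv.toAlgHom.toRingHom.comp ι0.toRingHom) (g := C)
        (MvPolynomial.ringHom_ext (fun a => by simp [eqv, ι0]) fun l => by simp [eqv, ι0]) c'
    have hsum : coeff d (eqv (∑ a, v a * Psi r k (A a b))) = ∑ i, c i * coeff d (eqv (V i b)) := by
      simp only [v, Finset.sum_mul, map_sum, coeff_sum, Fintype.sum_prod_type]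
      refine Finset.sum_congr rfl fun a _ => Finset.sum_congr rfl fun l _ => ?_
      rw [mul_assoc, map_mul, he, coeff_C_mul]
    rw [hsum, coeff_zero]
    by_cases hd : d ∈ T
    · exact hc (b, ⟨d, hd⟩)
    · refine Finset.sum_eq_zero fun i _ => ?_
      rw [notMem_support_iff.1 fun h => hd (Finset.mem_biUnion.2 ⟨i, Finset.mem_univ _,
        Finset.mem_biUnion.2 ⟨b, Finset.mem_univ _, h⟩⟩), mul_zero]
  have hscale : ∀ a, scale (v a) = Polynomial.X ^ e * Polynomial.C (v a) := fun a => by
    have h0 : ∀ c' : St r k, scale (ι0 c') = Polynomial.C (ι0 c') := fun c' => by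
      refine RingHom.congr_fun (f := scale.toRingHom.comp ι0.toRingHom) (g := Polynomial.C.comp ι0.toRingHom)
        (MvPolynomial.ringHom_ext (fun a => by simp [scale, ι0]) fun l => by simp [scale, ι0]) c'
    simp only [v, map_sum, Finset.mul_sum]
    refine Finset.sum_congr rfl fun l _ => ?_
    rw [map_mul, h0, map_mul Polynomial.C]
    simp only [mon, map_mul, map_pow, scale, aeval_X, Sum.elim_inr, mul_pow]
    have := Nat.add_sub_cancel' (Nat.lt_succ_iff.1 l.2)
    rw [show (Polynomial.X : Polynomial (R r k)) ^ e = Polynomial.X ^ (l : ℕ) * Polynomial.X ^ (e - (l : ℕ)) by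
      rw [← pow_add, this]]
    ring
  have hv0 : ∃ J, v J ≠ 0 := by
    obtain ⟨⟨a, l⟩, hal⟩ := Function.ne_iff.1 hc0
    refine ⟨a, fun h0 => hal ?_⟩
    refine MvPolynomial.funext fun st => ?_
    rw [Pi.zero_apply, map_zero]
    have := congrArg (coeff (Finsupp.single 0 (l : ℕ) + Finsupp.single 1 (e - (l : ℕ)))) (congrArg (ev st) h0)
    simp only [v, map_sum, map_zero, coeff_sum, coeff_zero, map_mul, hev0, hmon, coeff_C_mul] at this
    rw [Finset.sum_eq_single l] at this
    · simpa [mon, X_pow_eq_monomial, monomial_mul] using this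
    · intro l' _ hl'
      rw [show (mon (X 0 : L k) (X 1) e l') =
        monomial (Finsupp.single 0 (l' : ℕ) + Finsupp.single 1 (e - (l' : ℕ))) 1 by
          simp [mon, X_pow_eq_monomial, monomial_mul], coeff_monomial, if_neg, mul_zero]
      intro h
      exact hl' (Fin.ext (by have := congr($h 0); simp at this; exact this))
    · simp
  obtain ⟨J, hJ⟩ := hv0
  refine descent A hA v hscale hJ hsol fun I J i => sub_eq_zero.1 (eq_zero_of_ev fun st => ?_)
  have hmonhom : ∀ l, (mon (X 0 : L k) (X 1) e l).IsHomogeneous e := fun l => by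
    have := ((isHomogeneous_X k (0 : Fin (1 + 1))).pow (l : ℕ)).mul ((isHomogeneous_X k (1 : Fin (1 + 1))).pow (e - (l : ℕ)))
    rw [one_mul, one_mul, Nat.add_sub_cancel' (Nat.lt_succ_iff.1 l.2)] at this
    exact this
  have hvhom : ∀ a, (ev st (v a)).IsHomogeneous e := fun a => by
    simp only [v, map_sum, map_mul, hev0, hmon]
    exact IsHomogeneous.sum _ _ _ fun l _ => (hmonhom l).C_mul _
  have hwhom : ∀ a, (ev st (D i (v a))).IsHomogeneous (e + 1) := fun a => by
    have hp : ∀ (c' : St r k) (p : Fin r ⊕ Fin r) (l : Fin (e + 1)),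
        pderiv (Sum.inl p) (ι0 c' * mon (lam r k) (mu r k) e l) =
          ι0 (pderiv p c') * mon (lam r k) (mu r k) e l := fun c' p l => by
      rw [pderiv_mul, show pderiv (Sum.inl p) (mon (lam r k) (mu r k) e l) = 0 by simp [mon, Derivation.leibniz,
        Derivation.leibniz_pow], mul_zero, add_zero]
      congr 1
      exact pderiv_rename (Sum.inl_injective) _ _
    simp only [v, D_sum, map_sum]
    refine IsHomogeneous.sum _ _ _ fun l _ => ?_
    simp only [D, hp, map_sub, map_mul, hev0, hmon]
    have h0 : (ev st (lam r k)) = X 0 := by simp [ev]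
    have h1 : (ev st (mu r k)) = X 1 := by simp [ev]
    rw [h0, h1]
    refine IsHomogeneous.sub ?_ ?_
    · exact fun d hd => ((isHomogeneous_X k (1 : Fin (1 + 1))).mul ((hmonhom l).C_mul _) hd).trans (Nat.add_comm 1 e)
    · exact fun d hd => ((isHomogeneous_X k (0 : Fin (1 + 1))).mul ((hmonhom l).C_mul _) hd).trans (Nat.add_comm 1 e)
  have hk1 : ∀ b, ∑ a, ev st (v a) * phi st (A a b) = 0 := fun b => by
    simp only [← ev_Psi, ← map_mul, ← map_sum, hsol, map_zero]
  have hk2 : ∀ b, ∑ a, ev st (D i (v a)) * phi st (A a b) = 0 := fun b => by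
    have h := congrArg (D i) (hsol b)
    rw [D_sum, show D i (0 : R r k) = 0 by simp [D]] at h
    simp only [D_mul, D_Psi, mul_zero, add_zero] at h
    simp only [← ev_Psi, ← map_mul, ← map_sum, h, map_zero]
  rw [map_sub, map_mul, map_mul, hrigid st _ _ hvhom hwhom hk1 hk2 I J, sub_self]

end Groth.L03.VBPn.GM
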