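import Mathlib.Algebra.MvPolynomial.Division
import Mathlib.Algebra.MvPolynomial.Funext
import Mathlib.Algebra.MvPolynomial.PDeriv
import Mathlib.RingTheory.MvPolynomial.Homogeneous
import Mathlib.RingTheory.Localization.FractionRing
import Mathlib.Tactic.FieldSimp
import Mathlib.Tactic.FinCases
import Mathlib.Tactic.Ring

/-!
# The universal line and the change of coordinates

`R r k` has the parameters `s, t` of the lines `x = (λ : μ : t λ + s μ)` and the coordinates `λ, μ`.
-/

set_option autoImplicit false
set_option linter.unusedSectionVars false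

universe u

open MvPolynomial

noncomputable section

namespace Groth.L03.VBPn.GM

@[simp] theorem cases_one {n : ℕ} {α : Sort*} (a : α) (f : Fin (n + 1) → α) :
    Fin.cases (motive := fun _ => α) a f (1 : Fin (n + 1 + 1)) = f 0 := rfl

variable (r : ℕ) (k : Type u) [Field k]

/-- The indices. -/
abbrev Ix : Type := (Fin r ⊕ Fin r) ⊕ Fin 2

/-- The coordinate ring of the universal line. -/
abbrev R : Type u := MvPolynomial (Ix r) k

/-- The coordinate ring of the space. -/
abbrev P : Type u := MvPolynomial (Fin (r + 1 + 1)) k

/-- The coordinate ring of the line. -/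
abbrev L : Type u := MvPolynomial (Fin (1 + 1)) k

/-- `λ`. -/
abbrev lam : R r k := X (Sum.inr 0)

/-- `μ`. -/
abbrev mu : R r k := X (Sum.inr 1)

/-- `s`. -/
abbrev sv (i : Fin r) : R r k := X (Sum.inl (Sum.inl i))

/-- `t`. -/
abbrev tv (i : Fin r) : R r k := X (Sum.inl (Sum.inr i))

/-- The universal line. -/
def Psi : P r k →ₐ[k] R r k :=
  aeval (Fin.cases (lam r k) (Fin.cases (mu r k) fun i => lam r k * tv r k i + mu r k * sv r k i))

/-- The change of coordinates. -/
def theta : R r k →ₐ[k] MvPolynomial (Fin r) (P r k) :=
  aeval (Sum.elim (Sum.elim (fun i => C (X 0) * X i) (fun i => C (X i.succ.succ) - C (X 1) * X i))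
    ![C (X 0), C (X 1)])

/-- The space after the change of coordinates. -/
def piMap : P r k →ₐ[k] P r k :=
  aeval (Fin.cases (X 0) (Fin.cases (X 1) fun i => X 0 * X i.succ.succ))

variable {r k}

@[simp] theorem Psi_zero : Psi r k (X 0) = lam r k := by simp [Psi]

theorem Psi_one : Psi r k (X (Fin.succ 0)) = mu r k := by simp [Psi]

theorem Psi_succ (i : Fin r) :
    Psi r k (X i.succ.succ) = lam r k * tv r k i + mu r k * sv r k i := by simp [Psi]

theorem theta_Psi (g : P r k) : theta r k (Psi r k g) = C (piMap r k g) := by
  refine congrArg (fun φ : P r k →ₐ[k] MvPolynomial (Fin r) (P r k) => φ g)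
    (show (theta r k).comp (Psi r k) = (IsScalarTower.toAlgHom k (P r k) _).comp (piMap r k) from
      MvPolynomial.algHom_ext fun j => ?_)
  induction j using Fin.cases with
  | zero => simp [Psi, theta, piMap]
  | succ j =>
    induction j using Fin.cases with
    | zero => simp [Psi, theta, piMap]
    | succ i =>
      simp [Psi, theta, piMap]
      ring

theorem exists_retraction :
    ∃ (χ : MvPolynomial (Fin r) (P r k) →+* FractionRing (R r k)),
      (∀ g, χ (theta r k g) = algebraMap _ _ g) ∧ χ (C (X 0)) = algebraMap _ _ (lam r k) := by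
  let K := FractionRing (R r k)
  let a : R r k →+* K := algebraMap _ _
  have hl : a (lam r k) ≠ 0 := by
    rw [map_ne_zero_iff _ (IsFractionRing.injective (R r k) K)]
    exact X_ne_zero _
  let c : P r k →+* K := MvPolynomial.eval₂Hom (a.comp C)
    (Fin.cases (a (lam r k)) (Fin.cases (a (mu r k)) fun i => a (tv r k i) + a (mu r k) * (a (sv r k i) / a (lam r k))))
  let χ : MvPolynomial (Fin r) (P r k) →+* K := MvPolynomial.eval₂Hom c fun i => a (sv r k i) / a (lam r k)
  refine ⟨χ, fun g => ?_, by simp [χ, c, a, K]⟩
  refine congrArg (fun φ : R r k →+* K => φ g)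
    (show χ.comp (theta r k).toRingHom = a from MvPolynomial.ringHom_ext (fun z => ?_) fun j => ?_)
  · show χ (theta r k (C z)) = _
    rw [show (C z : R r k) = algebraMap k _ z from rfl, AlgHom.commutes,
      show algebraMap k (MvPolynomial (Fin r) (P r k)) z = C (C z) from rfl]
    simp [χ, c, a]
  · show χ (theta r k (X j)) = a (X j)
    rcases j with (i | i) | l
    · simp only [theta, aeval_X, Sum.elim_inl, map_mul, χ, coe_eval₂Hom, eval₂_C, eval₂_X, c,
        Fin.cases_zero]
      exact mul_div_cancel₀ _ hl
    · simp [theta, χ, c]
    · fin_cases l <;> simp [theta, χ, c]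

theorem theta_injective : Function.Injective (theta r k) := by
  obtain ⟨χ, hχ, -⟩ := exists_retraction (r := r) (k := k)
  intro f g h
  refine IsFractionRing.injective (R r k) (FractionRing (R r k)) ?_
  rw [← hχ, ← hχ, h]

theorem piMap_injective : Function.Injective (piMap r k) := by
  let K := FractionRing (P r k)
  let a : P r k →+* K := algebraMap _ _
  have hl : a (X 0) ≠ 0 := by
    rw [map_ne_zero_iff _ (IsFractionRing.injective (P r k) K)]
    exact X_ne_zero _
  let χ : P r k →+* K := MvPolynomial.eval₂Hom (a.comp C)
    (Fin.cases (a (X 0)) (Fin.cases (a (X (Fin.succ 0))) fun i => a (X i.succ.succ) / a (X 0)))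
  have h : χ.comp (piMap r k).toRingHom = a := MvPolynomial.ringHom_ext (fun z => by simp [χ, piMap]) fun j => by
    induction j using Fin.cases with
    | zero => simp [χ, piMap]
    | succ j =>
      induction j using Fin.cases with
      | zero => simp [χ, piMap]
      | succ i =>
        simp only [RingHom.coe_comp, AlgHom.toRingHom_eq_coe, RingHom.coe_coe, Function.comp_apply, piMap, aeval_X,
          Fin.cases_succ, χ, coe_eval₂Hom, eval₂_mul, eval₂_X, Fin.cases_zero]
        exact mul_div_cancel₀ _ hl
  intro f g hfg
  exact IsFractionRing.injective (P r k) K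
    ((RingHom.congr_fun h f).symm.trans ((congrArg χ hfg).trans (RingHom.congr_fun h g)))

theorem Psi_injective : Function.Injective (Psi r k) := fun f g h => by
  have := congrArg (theta r k) h
  rw [theta_Psi, theta_Psi] at this
  exact piMap_injective (C_injective _ _ this)

/-- After multiplication by a power of `x₀` everything comes from the space. -/
theorem exists_lift_pi (g : P r k) : ∃ (m : ℕ) (h : P r k), piMap r k h = X 0 ^ m * g := by
  induction g using MvPolynomial.induction_on with
  | C a => exact ⟨0, C a, by simp [piMap]⟩
  | add p q hp hq =>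
    obtain ⟨m, h, hh⟩ := hp
    obtain ⟨m', h', hh'⟩ := hq
    refine ⟨m + m', X 0 ^ m' * h + X 0 ^ m * h', ?_⟩
    simp only [map_add, map_mul, map_pow, hh, hh']
    rw [show piMap r k (X 0) = X 0 by simp [piMap]]
    ring
  | mul_X p i hp =>
    obtain ⟨m, h, hh⟩ := hp
    induction i using Fin.cases with
    | zero => exact ⟨m, h * X 0, by rw [map_mul, hh]; simp [piMap]; ring⟩
    | succ j =>
      induction j using Fin.cases with
      | zero => exact ⟨m, h * X (Fin.succ 0), by rw [map_mul, hh]; simp [piMap]; ring⟩
      | succ i => exact ⟨m + 1, h * X i.succ.succ, by rw [map_mul, hh]; simp [piMap]; ring⟩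

/-- After multiplication by a power of `x₀` everything comes from the universal line. -/
theorem exists_lift_theta (g : MvPolynomial (Fin r) (P r k)) :
    ∃ (m : ℕ) (h : R r k), theta r k h = C (X 0) ^ m * g := by
  have hl : theta r k (lam r k) = C (X 0) := by simp [theta]
  induction g using MvPolynomial.induction_on with
  | C a =>
    induction a using MvPolynomial.induction_on with
    | C z => exact ⟨0, C z, by rw [pow_zero, one_mul]; exact (theta r k).commutes z⟩
    | add p q hp hq =>
      obtain ⟨m, h, hh⟩ := hp
      obtain ⟨m', h', hh'⟩ := hq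
      refine ⟨m + m', lam r k ^ m' * h + lam r k ^ m * h', ?_⟩
      simp only [map_add, map_mul, map_pow, hh, hh', hl]
      ring
    | mul_X p i hp =>
      obtain ⟨m, h, hh⟩ := hp
      induction i using Fin.cases with
      | zero => exact ⟨m, h * lam r k, by rw [map_mul, hh, hl, map_mul]; ring⟩
      | succ j =>
        induction j using Fin.cases with
        | zero =>
          exact ⟨m, h * mu r k, by
            rw [map_mul, hh, show theta r k (mu r k) = C (X (Fin.succ 0)) by simp [theta, Fin.succ_zero_eq_one], map_mul]
            ring⟩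
        | succ i =>
          refine ⟨m + 1, h * (lam r k * tv r k i + mu r k * sv r k i), ?_⟩
          rw [map_mul, hh, map_add, map_mul, map_mul, hl, map_mul,
            show theta r k (mu r k) = C (X (Fin.succ 0)) by simp [theta, Fin.succ_zero_eq_one],
            show theta r k (tv r k i) = C (X i.succ.succ) - C (X (Fin.succ 0)) * X i by
              simp [theta, Fin.succ_zero_eq_one],
            show theta r k (sv r k i) = C (X 0) * X i by simp [theta]]
          ring
  | add p q hp hq =>
    obtain ⟨m, h, hh⟩ := hp
    obtain ⟨m', h', hh'⟩ := hq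
    refine ⟨m + m', lam r k ^ m' * h + lam r k ^ m * h', ?_⟩
    simp only [map_add, map_mul, map_pow, hh, hh', hl]
    ring
  | mul_X p i hp =>
    obtain ⟨m, h, hh⟩ := hp
    refine ⟨m + 1, h * sv r k i, ?_⟩
    rw [map_mul, hh, show theta r k (sv r k i) = C (X 0) * X i by simp [theta]]
    ring

/-- The derivation fixing the point and moving the line. -/
def D (i : Fin r) (g : R r k) : R r k :=
  mu r k * pderiv (Sum.inl (Sum.inr i)) g - lam r k * pderiv (Sum.inl (Sum.inl i)) g

theorem D_add (i : Fin r) (f g : R r k) : D i (f + g) = D i f + D i g := by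
  simp only [D, map_add]; ring

theorem D_mul (i : Fin r) (f g : R r k) : D i (f * g) = D i f * g + f * D i g := by
  simp only [D, Derivation.leibniz, smul_eq_mul]; ring

theorem D_C (i : Fin r) (c : k) : D i (C c : R r k) = 0 := by simp [D]

theorem D_sum {ι : Type*} (i : Fin r) (s : Finset ι) (f : ι → R r k) : D i (∑ a ∈ s, f a) = ∑ a ∈ s, D i (f a) := by
  simp only [D, map_sum, Finset.mul_sum, Finset.sum_sub_distrib]

theorem D_Psi (i : Fin r) (g : P r k) : D i (Psi r k g) = 0 := by
  induction g using MvPolynomial.induction_on with
  | C a => rw [show Psi r k (C a) = C a from (Psi r k).commutes a, D_C]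
  | add p q hp hq => rw [map_add, D_add, hp, hq, add_zero]
  | mul_X p j hp =>
    rw [map_mul, D_mul, hp, zero_mul, zero_add]
    suffices h : D i (Psi r k (X j)) = 0 by rw [h, mul_zero]
    induction j using Fin.cases with
    | zero => simp [D]
    | succ j =>
      induction j using Fin.cases with
      | zero => rw [Psi_one]; simp [D]
      | succ l =>
        rw [Psi_succ]
        by_cases h : l = i
        · subst h
          simp [D, Derivation.leibniz]
          ring
        · simp [D, Derivation.leibniz, h]

/-- The derivation is a partial derivative after the change of coordinates. -/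
theorem pderiv_theta (i : Fin r) (g : R r k) : pderiv i (theta r k g) = -theta r k (D i g) := by
  induction g using MvPolynomial.induction_on with
  | C a =>
    rw [D_C, map_zero, neg_zero, show theta r k (C a) = algebraMap k _ a from (theta r k).commutes a,
      show algebraMap k (MvPolynomial (Fin r) (P r k)) a = C (C a) from rfl, pderiv_C]
  | add p q hp hq => rw [map_add, map_add, hp, hq, D_add, map_add]; ring
  | mul_X p j hp =>
    rw [map_mul, pderiv_mul, hp, D_mul, map_add, map_mul, map_mul]
    suffices h : pderiv i (theta r k (X j)) = -theta r k (D i (X j)) by rw [h]; ring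
    rcases j with (l | l) | l
    · by_cases h : l = i
      · subst h
        simp [theta, D, Derivation.leibniz]
      · simp [theta, D, Derivation.leibniz, h]
    · by_cases h : l = i
      · subst h
        simp [theta, D, Derivation.leibniz]
      · simp [theta, D, Derivation.leibniz, h]
    · fin_cases l <;> simp [theta, D]

end Groth.L03.VBPn.GM
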